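import Groth.Agent.RelCurveDiv.Affine
import Groth.Agent.FlatX.RelCartier
import Groth.Prelude.Def_Mor2

/-!
# Relative effective Cartier divisors on smooth curves
-/

set_option autoImplicit false
set_option linter.style.haveILetI false
set_option backward.isDefEq.respectTransparency false
set_option backward.isDefEq.respectTransparency.types false

universe u

open CategoryTheory AlgebraicGeometry Groth.Agent.FlatX

namespace Groth.Agent.RelCurveDiv

variable {X S : Scheme.{u}}

/-- Properties of a closed subscheme over a chart. -/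
theorem appLE_subscheme_iff {P : ∀ {R T : Type u} [CommRing R] [CommRing T], (R →+* T) → Prop}
    (hP : RingHom.RespectsIso @P) (f : X ⟶ S) (I : X.IdealSheafData) (W : S.affineOpens) (U : X.affineOpens)
    (e : U.1 ≤ f ⁻¹ᵁ W.1) :
    P ((I.subschemeι ≫ f).appLE W.1 (I.subschemeι ⁻¹ᵁ U.1) (fun _ hy => e hy)).hom ↔
      P (quotApp f I W U e) := by
  let ψ := (RingHom.quotientKerEquivOfSurjective (I.subschemeι_app_surjective U))
  have h1 : ((I.subschemeι ≫ f).appLE W.1 (I.subschemeι ⁻¹ᵁ U.1) (fun _ hy => e hy)).hom =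
      ((ψ : _ →+* _).comp (Ideal.quotEquivOfEq (I.ker_subschemeι_app U)).symm.toRingHom).comp
        (quotApp f I W U e) := by
    rw [show (I.subschemeι ≫ f).appLE W.1 (I.subschemeι ⁻¹ᵁ U.1) (fun _ hy => e hy) =
      f.appLE W.1 U.1 e ≫ I.subschemeι.app U.1 by
        rw [Scheme.Hom.app_eq_appLE, Scheme.Hom.appLE_comp_appLE]]
    ext y
    rfl
  rw [h1]
  let E := (Ideal.quotEquivOfEq (I.ker_subschemeι_app U)).symm.trans ψ
  refine ⟨fun h => ?_, fun h => hP.1 _ E h⟩
  have h' := hP.1 _ E.symm h
  convert h' using 1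
  ext y
  exact (E.symm_apply_apply _).symm

/-- A chart on which the morphism is standard smooth of relative dimension one, inside a given open. -/
theorem exists_smooth_chart (f : X ⟶ S) [SmoothOfRelativeDimension 1 f] (x : X) :
    ∃ (W : S.affineOpens) (V : X.affineOpens) (e : V.1 ≤ f ⁻¹ᵁ W.1), x ∈ V.1 ∧
      (f.appLE W.1 V.1 e).hom.IsStandardSmoothOfRelativeDimension 1 := by
  obtain ⟨W, hW, V, hV, hx, e, h⟩ := SmoothOfRelativeDimension.exists_isStandardSmoothOfRelativeDimension (n := 1) (f := f) x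
  exact ⟨⟨W, hW⟩, ⟨V, hV⟩, e, hx, h⟩

theorem standardSmooth_basicOpen (f : X ⟶ S) (W : S.affineOpens) (V : X.affineOpens) (e : V.1 ≤ f ⁻¹ᵁ W.1)
    (h : (f.appLE W.1 V.1 e).hom.IsStandardSmoothOfRelativeDimension 1) (r : Γ(X, V.1)) :
    (f.appLE W.1 (X.basicOpen r) ((X.basicOpen_le r).trans e)).hom.IsStandardSmoothOfRelativeDimension 1 := by
  haveI := V.2.isLocalization_basicOpen r
  have := (RingHom.isStandardSmoothOfRelativeDimension_stableUnderCompositionWithLocalizationAway 1).2
    Γ(X, X.basicOpen r) r _ h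
  rwa [show (algebraMap Γ(X, V.1) Γ(X, X.basicOpen r)).comp (f.appLE W.1 V.1 e).hom =
      (f.appLE W.1 (X.basicOpen r) ((X.basicOpen_le r).trans e)).hom by
    rw [← Scheme.Hom.appLE_map f e (homOfLE (X.basicOpen_le r)).op]; rfl] at this

theorem isEffCartier_of_quasiFinite_flat (f : X ⟶ S) [SmoothOfRelativeDimension 1 f] (I : X.IdealSheafData)
    [LocallyQuasiFinite (I.subschemeι ≫ f)] [Flat (I.subschemeι ≫ f)]
    [LocallyOfFinitePresentation (I.subschemeι ≫ f)] : BlowUp.IsEffCartierIdeal I := by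
  intro x
  obtain ⟨W, V, e, hxV, hsm⟩ := exists_smooth_chart f x
  let A := Γ(S, W.1)
  let B := Γ(X, V.1)
  letI : Algebra A B := (f.appLE W.1 V.1 e).hom.toAlgebra
  haveI : Algebra.IsStandardSmoothOfRelativeDimension 1 A B := hsm
  haveI : Algebra.IsStandardSmooth A B := Algebra.IsStandardSmoothOfRelativeDimension.isStandardSmooth 1
  have hflat : (quotApp f I W V e).Flat := flat_quotApp f I inferInstance W V e
  have hfp : (quotApp f I W V e).FinitePresentation :=
    (appLE_subscheme_iff RingHom.finitePresentation_respectsIso f I W V e).1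
      (HasRingHomProperty.appLE @LocallyOfFinitePresentation (I.subschemeι ≫ f) inferInstance W
        ⟨_, V.2.preimage I.subschemeι⟩ _)
  have hqf : (quotApp f I W V e).QuasiFinite :=
    (appLE_subscheme_iff RingHom.QuasiFinite.respectsIso f I W V e).1
      (HasRingHomProperty.appLE @LocallyQuasiFinite (I.subschemeι ≫ f) inferInstance W
        ⟨_, V.2.preimage I.subschemeι⟩ _)
  have hcomp : quotApp f I W V e = algebraMap A (B ⧸ I.ideal V) := rfl
  rw [hcomp] at hflat hfp hqf
  haveI : Module.Flat A (B ⧸ I.ideal V) := RingHom.flat_algebraMap_iff.1 hflat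
  haveI : Algebra.FinitePresentation A (B ⧸ I.ideal V) := RingHom.finitePresentation_algebraMap.1 hfp
  haveI : Algebra.QuasiFinite A (B ⧸ I.ideal V) := RingHom.quasiFinite_algebraMap.1 hqf
  have hfg : (I.ideal V).FG := by
    have := Algebra.FinitePresentation.ker_fG_of_surjective (Ideal.Quotient.mkₐ A (I.ideal V))
      Ideal.Quotient.mk_surjective
    rwa [show RingHom.ker (Ideal.Quotient.mkₐ A (I.ideal V)).toRingHom = I.ideal V from Ideal.mk_ker] at this
  obtain ⟨h, hh, g, -, hg⟩ := exists_generator (A := A) (I.ideal V) hfg (V.2.primeIdealOf ⟨x, hxV⟩).asIdeal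
  refine ⟨X.affineBasicOpen h, ?_, ?_⟩
  · show x ∈ X.basicOpen h
    have h' : V.2.primeIdealOf ⟨x, hxV⟩ ∈ V.2.fromSpec ⁻¹ᵁ X.basicOpen h := by
      rw [V.2.fromSpec_preimage_basicOpen]; exact hh
    rwa [Scheme.Hom.mem_preimage, V.2.fromSpec_primeIdealOf ⟨x, hxV⟩] at h'
  · haveI := V.2.isLocalization_basicOpen h
    obtain ⟨hnzd, hideal⟩ := hg Γ(X, X.basicOpen h)
    exact ⟨_, hnzd, (I.map_ideal_basicOpen V h).symm.trans hideal⟩

theorem quasiFinite_and_fp_of_isEffCartier (f : X ⟶ S) [SmoothOfRelativeDimension 1 f] (I : X.IdealSheafData)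
    (hI : BlowUp.IsEffCartierIdeal I) [Flat (I.subschemeι ≫ f)] :
    LocallyQuasiFinite (I.subschemeι ≫ f) ∧ LocallyOfFinitePresentation (I.subschemeι ≫ f) := by
  have key : ∀ x : X, ∃ (W : S.affineOpens) (U : X.affineOpens) (e : U.1 ≤ f ⁻¹ᵁ W.1), x ∈ U.1 ∧
      (quotApp f I W U e).QuasiFinite ∧ (quotApp f I W U e).FinitePresentation := by
    intro x
    obtain ⟨W, V, e, hxV, hsm⟩ := exists_smooth_chart f x
    obtain ⟨U, hxU, hUV, hgen⟩ := exists_locGen hI hxV
    obtain ⟨r, r', err, hxr⟩ := exists_basicOpen_le_affine_inter V.2 U.2 x ⟨hxV, hxU⟩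
    refine ⟨W, X.affineBasicOpen r, (X.basicOpen_le r).trans e, hxr, ?_⟩
    have hgen' : LocGen I (X.affineBasicOpen r) := by
      have : X.affineBasicOpen r = X.affineBasicOpen r' := Subtype.ext err
      exact this ▸ LocGen.basicOpen hgen r'
    obtain ⟨g, hg, hIg⟩ := hgen'
    have hsm' := standardSmooth_basicOpen f W V e hsm r
    let A := Γ(S, W.1)
    let B := Γ(X, (X.affineBasicOpen r).1)
    letI : Algebra A B := (f.appLE W.1 (X.affineBasicOpen r).1 ((X.basicOpen_le r).trans e)).hom.toAlgebra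
    haveI : Algebra.IsStandardSmoothOfRelativeDimension 1 A B := hsm'
    haveI : Algebra.IsStandardSmooth A B := Algebra.IsStandardSmoothOfRelativeDimension.isStandardSmooth 1
    have hflat : ((Ideal.Quotient.mk (Ideal.span {g})).comp
        (f.appLE W.1 (X.affineBasicOpen r).1 ((X.basicOpen_le r).trans e)).hom).Flat :=
      flat_congr _ hIg (flat_quotApp f I inferInstance W _ _)
    haveI : Module.Flat A (B ⧸ Ideal.span {g}) := RingHom.flat_algebraMap_iff.1 hflat
    haveI := quasiFinite_quotient (A := A) g hg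
    haveI : Algebra.FinitePresentation A (B ⧸ Ideal.span {g}) :=
      Algebra.FinitePresentation.quotient (Submodule.fg_span_singleton g)
    constructor
    · have h1 : (algebraMap A (B ⧸ Ideal.span {g})).QuasiFinite := RingHom.quasiFinite_algebraMap.2 inferInstance
      rw [← hIg] at h1
      exact h1
    · have h1 : (algebraMap A (B ⧸ Ideal.span {g})).FinitePresentation := RingHom.finitePresentation_algebraMap.2 inferInstance
      rw [← hIg] at h1
      exact h1
  constructor
  · rw [HasRingHomProperty.iff_exists_appLE (P := @LocallyQuasiFinite)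
      (RingHom.QuasiFinite.stableUnderComposition.stableUnderCompositionWithLocalizationAway
        RingHom.QuasiFinite.holdsForLocalizationAway).left]
    intro d
    obtain ⟨W, U, e, hdU, h, -⟩ := key (I.subschemeι d)
    exact ⟨W, ⟨_, U.2.preimage I.subschemeι⟩, hdU, fun _ hy => e hy,
      (appLE_subscheme_iff RingHom.QuasiFinite.respectsIso f I W U e).2 h⟩
  · rw [HasRingHomProperty.iff_exists_appLE (P := @LocallyOfFinitePresentation)
      (RingHom.finitePresentation_stableUnderComposition.stableUnderCompositionWithLocalizationAway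
        RingHom.finitePresentation_holdsForLocalizationAway).left]
    intro d
    obtain ⟨W, U, e, hdU, -, h⟩ := key (I.subschemeι d)
    exact ⟨W, ⟨_, U.2.preimage I.subschemeι⟩, hdU, fun _ hy => e hy,
      (appLE_subscheme_iff RingHom.finitePresentation_respectsIso f I W U e).2 h⟩

theorem isEffCartier_of_finLocFree (f : X ⟶ S) [SmoothOfRelativeDimension 1 f] (I : X.IdealSheafData)
    (h : Mor2.IsFinLocFree (I.subschemeι ≫ f)) : BlowUp.IsEffCartierIdeal I ∧ Flat (I.subschemeι ≫ f) := by
  obtain ⟨h1, h2, h3⟩ := h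
  haveI := h1; haveI := h2; haveI := h3
  exact ⟨isEffCartier_of_quasiFinite_flat f I, h2⟩

end Groth.Agent.RelCurveDiv
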