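import Groth.Agent.RelCurveDiv.Sum
import Groth.Prelude.Def_W4c6dblnestedhilbptsFlags

/-!
# Flags of relative divisors on smooth curves
-/

set_option autoImplicit false

universe u

open CategoryTheory AlgebraicGeometry

namespace Groth.Agent.RelCurveDiv

variable {X S : Scheme.{u}} (f : X ⟶ S) [SmoothOfRelativeDimension 1 f]

theorem div_cancel {d : ℕ} {A P Q : X.IdealSheafData} (hA : HilbD.IsDivOfDeg f d A) (h : A * P = A * Q) : P = Q :=
  ModPairLib.eq_of_mul_eq_mul (isEffCartier_of_finLocFree f A hA.1).1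
    ((mul_comm P A).trans (h.trans (mul_comm A Q)))

theorem eq_of_le_of_deg {d : ℕ} {P Q : X.IdealSheafData} (hP : HilbD.IsDivOfDeg f d P) (hQ : HilbD.IsDivOfDeg f d Q)
    (h : P ≤ Q) : P = Q := by
  obtain ⟨I, hI, e⟩ := difference_finLocFreeOfDeg f Q P h d d hQ hP
  rw [Nat.sub_self] at hI
  rw [e, eq_top_of_deg_zero f I hI, mul_comm, Scheme.IdealSheafData.top_mul]

variable (μ : YoungDiagram) (n : ℕ × ℕ → ℕ)

theorem edgeData_existsUnique (h00 : ((0, 0) : ℕ × ℕ) ∈ μ)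
    (Z : ∀ c : ℕ × ℕ, c ∈ μ → X.IdealSheafData) (hZ : HilbD.IsDnFlag f μ n Z) :
    (∃! E : HilbD.DnEdgeData μ X, E.IsOfType f n ∧ E.IsEdgesOf h00 Z) ∧
      ∀ E : HilbD.DnEdgeData μ X, E.IsOfType f n → E.IsEdgesOf h00 Z →
        ∀ (c : ℕ × ℕ) (hc : c ∈ μ) (hi : 1 ≤ c.1) (hj : 1 ≤ c.2), E.gammaOne c hc hi hj = E.gammaTwo c hc hi hj := by
  have hv : ∀ (c : ℕ × ℕ) (hc : c ∈ μ), ∃ I, HilbD.IsDivOfDeg f (n c - n (c.1 - 1, c.2)) I ∧
      Z c hc = Z (c.1 - 1, c.2) (HilbD.mem_up hc) * I := fun c hc =>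
    difference_finLocFreeOfDeg f _ _ (hZ.2 _ _ (HilbD.mem_up hc) hc ⟨Nat.sub_le c.1 1, le_rfl⟩) _ _
      (hZ.1 _ _) (hZ.1 _ _)
  have hh : ∀ (c : ℕ × ℕ) (hc : c ∈ μ), ∃ I, HilbD.IsDivOfDeg f (n c - n (c.1, c.2 - 1)) I ∧
      Z c hc = Z (c.1, c.2 - 1) (HilbD.mem_left hc) * I := fun c hc =>
    difference_finLocFreeOfDeg f _ _ (hZ.2 _ _ (HilbD.mem_left hc) hc ⟨le_rfl, Nat.sub_le c.2 1⟩) _ _
      (hZ.1 _ _) (hZ.1 _ _)
  choose v hv₁ hv₂ using hv
  choose h hh₁ hh₂ using hh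
  refine ⟨⟨⟨Z _ h00, fun c hc _ => v c hc, fun c hc _ => h c hc⟩,
    ⟨⟨hZ.1 _ _, fun c hc _ => hv₁ c hc, fun c hc _ => hh₁ c hc⟩,
      rfl, fun c hc _ => hv₂ c hc, fun c hc _ => hh₂ c hc⟩, ?_⟩, ?_⟩
  · rintro E ⟨-, hb, hev, heh⟩
    refine HilbD.DnEdgeData.ext hb.symm ?_ ?_
    · funext c hc hi
      exact div_cancel f (hZ.1 _ _) ((hev c hc hi).symm.trans (hv₂ c hc))
    · funext c hc hj
      exact div_cancel f (hZ.1 _ _) ((heh c hc hj).symm.trans (hh₂ c hc))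
  · rintro E - ⟨-, hev, heh⟩ c hc hi hj
    refine div_cancel f (hZ.1 (c.1 - 1, c.2 - 1) (HilbD.mem_left (HilbD.mem_up hc))) ?_
    have h1 := hev c hc hi
    rw [heh (c.1 - 1, c.2) (HilbD.mem_up hc) hj] at h1
    have h2 := heh c hc hj
    rw [hev (c.1, c.2 - 1) (HilbD.mem_left hc) hi] at h2
    have h3 := h1.symm.trans h2
    simp only [mul_assoc] at h3
    rw [HilbD.DnEdgeData.gammaOne, HilbD.DnEdgeData.gammaTwo, mul_comm (E.vert c hc hi),
      mul_comm (E.horiz c hc hj)]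
    exact h3

/-- The flag built from edge data, down the first column and then along the rows. -/
def flagOf {μ : YoungDiagram} (E : HilbD.DnEdgeData μ X) : ∀ i j : ℕ, (i, j) ∈ μ → X.IdealSheafData
  | 0, 0, _ => E.base
  | i + 1, 0, h => flagOf E i 0 (HilbD.mem_up h) * E.vert (i + 1, 0) h (Nat.succ_pos i)
  | i, j + 1, h => flagOf E i j (HilbD.mem_left h) * E.horiz (i, j + 1) h (Nat.succ_pos j)
termination_by i j => (j, i)

variable {μ n} (hn : HilbD.IsRevPlanePartition μ n) {E : HilbD.DnEdgeData μ X} (hE : E.IsOfType f n)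
include hn hE

theorem flagOf_deg : ∀ (i j : ℕ) (h : (i, j) ∈ μ), HilbD.IsDivOfDeg f (n (i, j)) (flagOf E i j h)
  | 0, 0, _ => by rw [flagOf]; exact hE.1
  | i + 1, 0, h => by
    rw [flagOf]
    have := sum_finLocFreeOfDeg f _ _ _ _ (flagOf_deg i 0 (HilbD.mem_up h)) (hE.2.1 (i + 1, 0) h (Nat.succ_pos i))
    simp only [Nat.add_sub_cancel] at this
    rwa [Nat.add_sub_cancel' (show n (i, 0) ≤ n (i + 1, 0) from hn (HilbD.mem_up h) h ⟨i.le_succ, le_rfl⟩)] at this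
  | i, j + 1, h => by
    rw [flagOf]
    have := sum_finLocFreeOfDeg f _ _ _ _ (flagOf_deg i j (HilbD.mem_left h)) (hE.2.2 (i, j + 1) h (Nat.succ_pos j))
    simp only [Nat.add_sub_cancel] at this
    rwa [Nat.add_sub_cancel' (show n (i, j) ≤ n (i, j + 1) from hn (HilbD.mem_left h) h ⟨le_rfl, j.le_succ⟩)] at this
termination_by i j => (j, i)

variable (hcomm : ∀ (c : ℕ × ℕ) (hc : c ∈ μ) (hi : 1 ≤ c.1) (hj : 1 ≤ c.2),
  E.gammaOne c hc hi hj ≤ E.gammaTwo c hc hi hj)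
include hcomm

theorem flagOf_vert : ∀ (i j : ℕ) (h : (i + 1, j) ∈ μ),
    flagOf E (i + 1) j h = flagOf E i j (HilbD.mem_up h) * E.vert (i + 1, j) h (Nat.succ_pos i)
  | i, 0, h => by rw [flagOf]
  | i, j + 1, h => by
    have hu : (i, j + 1) ∈ μ := HilbD.mem_up h
    have hl : (i + 1, j) ∈ μ := HilbD.mem_left h
    have hd : (i, j) ∈ μ := HilbD.mem_left hu
    have m₁ : n (i, j) ≤ n (i, j + 1) := hn hd hu ⟨le_rfl, j.le_succ⟩
    have m₂ : n (i, j + 1) ≤ n (i + 1, j + 1) := hn hu h ⟨i.le_succ, le_rfl⟩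
    have m₃ : n (i, j) ≤ n (i + 1, j) := hn hd hl ⟨i.le_succ, le_rfl⟩
    have m₄ : n (i + 1, j) ≤ n (i + 1, j + 1) := hn hl h ⟨le_rfl, j.le_succ⟩
    have d₁ := sum_finLocFreeOfDeg f _ _ _ _ (hE.2.1 (i + 1, j + 1) h (Nat.succ_pos i))
      (hE.2.2 (i, j + 1) hu (Nat.succ_pos j))
    have d₂ := sum_finLocFreeOfDeg f _ _ _ _ (hE.2.2 (i + 1, j + 1) h (Nat.succ_pos j))
      (hE.2.1 (i + 1, j) hl (Nat.succ_pos i))
    simp only [Nat.add_sub_cancel] at d₁ d₂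
    rw [show n (i + 1, j + 1) - n (i, j + 1) + (n (i, j + 1) - n (i, j)) = n (i + 1, j + 1) - n (i, j) by omega] at d₁
    rw [show n (i + 1, j + 1) - n (i + 1, j) + (n (i + 1, j) - n (i, j)) = n (i + 1, j + 1) - n (i, j) by omega] at d₂
    have hγ : E.vert (i + 1, j + 1) h (Nat.succ_pos i) * E.horiz (i, j + 1) hu (Nat.succ_pos j) =
        E.horiz (i + 1, j + 1) h (Nat.succ_pos j) * E.vert (i + 1, j) hl (Nat.succ_pos i) :=
      eq_of_le_of_deg f d₁ d₂ (hcomm (i + 1, j + 1) h (Nat.succ_pos i) (Nat.succ_pos j))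
    rw [flagOf, flagOf, flagOf_vert i j hl, mul_assoc, mul_assoc, mul_comm (E.vert _ hl _), ← hγ,
      mul_comm (E.vert _ h _)]
termination_by i j => j

omit hn hE hcomm in
theorem flag_existsUnique (hn : HilbD.IsRevPlanePartition μ n) (hE : E.IsOfType f n)
    (hcomm : ∀ (c : ℕ × ℕ) (hc : c ∈ μ) (hi : 1 ≤ c.1) (hj : 1 ≤ c.2),
      E.gammaOne c hc hi hj ≤ E.gammaTwo c hc hi hj) (h00 : ((0, 0) : ℕ × ℕ) ∈ μ) :
    ∃! Z : ∀ c : ℕ × ℕ, c ∈ μ → X.IdealSheafData, HilbD.IsDnFlag f μ n Z ∧ E.IsEdgesOf h00 Z := by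
  have hrow : ∀ (i j : ℕ) (h : (i, j + 1) ∈ μ),
      flagOf E i (j + 1) h = flagOf E i j (HilbD.mem_left h) * E.horiz (i, j + 1) h (Nat.succ_pos j) :=
    fun i j h => by rw [flagOf]
  have stepi : ∀ i' i j (h : (i', j) ∈ μ) (h' : (i, j) ∈ μ), i ≤ i' → flagOf E i' j h ≤ flagOf E i j h' := by
    intro i'
    induction i' with
    | zero => intro i j h h' hle; obtain rfl : i = 0 := by omega
              exact le_rfl
    | succ k ih =>
      intro i j h h' hle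
      rcases Nat.lt_or_eq_of_le hle with hlt | rfl
      · rw [flagOf_vert f hn hE hcomm k j h]
        exact le_trans (fun U => Ideal.mul_le_left) (ih i j _ h' (Nat.lt_succ_iff.1 hlt))
      · exact le_rfl
  have stepj : ∀ j' i j (h : (i, j') ∈ μ) (h' : (i, j) ∈ μ), j ≤ j' → flagOf E i j' h ≤ flagOf E i j h' := by
    intro j'
    induction j' with
    | zero => intro i j h h' hle; obtain rfl : j = 0 := by omega
              exact le_rfl
    | succ k ih =>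
      intro i j h h' hle
      rcases Nat.lt_or_eq_of_le hle with hlt | rfl
      · rw [hrow i k h]
        exact le_trans (fun U => Ideal.mul_le_left) (ih i j _ h' (Nat.lt_succ_iff.1 hlt))
      · exact le_rfl
  refine ⟨fun c hc => flagOf E c.1 c.2 hc, ⟨⟨fun c hc => flagOf_deg f hn hE c.1 c.2 hc, ?_⟩, ?_, ?_, ?_⟩, ?_⟩
  · intro c c' hc hc' hle
    exact (stepi c'.1 c.1 c'.2 hc' (μ.isLowerSet (show ((c.1, c'.2) : ℕ × ℕ) ≤ c' from ⟨hle.1, le_rfl⟩) hc')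
      hle.1).trans (stepj c'.2 c.1 c.2 _ hc hle.2)
  · show flagOf E 0 0 h00 = E.base
    rw [flagOf]
  · rintro ⟨_ | i, j⟩ hc hi
    · simp at hi
    · exact flagOf_vert f hn hE hcomm i j hc
  · rintro ⟨i, _ | j⟩ hc hj
    · simp at hj
    · exact hrow i j hc
  · rintro Z ⟨-, hb, hev, heh⟩
    funext c hc
    obtain ⟨i, j⟩ := c
    induction j with
    | zero =>
      induction i with
      | zero => exact hb.trans (by rw [flagOf])
      | succ k ih =>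
        show Z (k + 1, 0) hc = flagOf E (k + 1) 0 hc
        rw [flagOf, hev (k + 1, 0) hc (Nat.succ_pos k)]
        exact congrArg (· * _) (ih _)
    | succ k ih =>
      show Z (i, k + 1) hc = flagOf E i (k + 1) hc
      rw [hrow, heh (i, k + 1) hc (Nat.succ_pos k)]
      exact congrArg (· * _) (ih _)

end Groth.Agent.RelCurveDiv
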