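import Groth.Agent.RelCurveDiv.Regular
import Groth.Agent.FlatX.Algebra

/-!
# Relative divisors on smooth curves, affine form
-/

set_option autoImplicit false
set_option linter.style.haveILetI false
set_option backward.isDefEq.respectTransparency false
set_option backward.isDefEq.respectTransparency.types false

universe u

open IsLocalRing TensorProduct

namespace Groth.Agent.RelCurveDiv

/-- For a flat quotient `R/K`, `K ∩ aR = aK`. -/
theorem inf_map_le_of_flat {A R : Type u} [CommRing A] [CommRing R] [Algebra A R] (a : Ideal A) (K : Ideal R)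
    [Module.Flat A (R ⧸ K)] : K ⊓ a.map (algebraMap A R) ≤ a.map (algebraMap A R) * K := by
  rintro x ⟨hxK, hxa⟩
  obtain ⟨ι, _, f, r, hf, rfl⟩ : ∃ (ι : Type u) (_ : Fintype ι) (f : ι → A) (r : ι → R),
      (∀ i, f i ∈ a) ∧ x = ∑ i, f i • r i := by
    have hx' : x ∈ a • (⊤ : Submodule A R) := by rw [Ideal.smul_top_eq_map]; exact hxa
    refine Submodule.smul_induction_on hx' (fun c hc n _ => ?_) ?_
    · exact ⟨PUnit, inferInstance, fun _ => c, fun _ => n, fun _ => hc, by simp⟩
    · rintro _ _ ⟨ι, _, f, r, hf, rfl⟩ ⟨κ, _, f', r', hf', rfl⟩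
      refine ⟨ι ⊕ κ, inferInstance, Sum.elim f f', Sum.elim r r', ?_, by simp⟩
      rintro (i | i)
      · exact hf i
      · exact hf' i
  have h0 : ∑ i, f i • Ideal.Quotient.mk K (r i) = 0 := by
    have h1 : Ideal.Quotient.mkₐ A K (∑ i, f i • r i) = 0 := Ideal.Quotient.eq_zero_iff_mem.2 hxK
    simpa only [map_sum, map_smul, Ideal.Quotient.mkₐ_eq_mk] using h1
  obtain ⟨k, c, y, hy, hc⟩ := Module.Flat.isTrivialRelation_of_sum_smul_eq_zero (R := A) (M := R ⧸ K) (by convert! h0)
  choose y' hy' using fun j => Ideal.Quotient.mk_surjective (y j)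
  have he : ∀ i, r i - ∑ j, c i j • y' j ∈ K := fun i => by
    have hyi : Ideal.Quotient.mk K (r i) = ∑ j, c i j • y j := hy i
    rw [← Ideal.Quotient.eq_zero_iff_mem, map_sub, hyi, map_sum, sub_eq_zero]
    refine Finset.sum_congr rfl fun j _ => ?_
    rw [← hy' j]
    exact (map_smul (Ideal.Quotient.mkₐ A K) (c i j) (y' j)).symm
  have hsum : ∑ i, f i • r i = ∑ i, f i • (r i - ∑ j, c i j • y' j) := by
    simp only [smul_sub, Finset.sum_sub_distrib, Finset.smul_sum, ← mul_smul]
    rw [Finset.sum_comm (f := fun i j => (f i * c i j) • y' j)]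
    simp only [← Finset.sum_smul, hc, zero_smul, Finset.sum_const_zero, sub_zero]
  rw [hsum]
  refine Ideal.sum_mem _ fun i _ => ?_
  rw [Algebra.smul_def]
  exact Ideal.mul_mem_mul (Ideal.mem_map_of_mem _ (hf i)) (he i)

variable {A B : Type u} [CommRing A] [CommRing B] [Algebra A B]
  [Algebra.IsStandardSmoothOfRelativeDimension 1 A B]

/-- A finitely generated ideal with flat quasi-finite quotient is invertible. -/
theorem exists_generator (I : Ideal B) (hfg : I.FG) [Module.Flat A (B ⧸ I)] [Algebra.QuasiFinite A (B ⧸ I)]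
    (q : Ideal B) [q.IsPrime] :
    ∃ h ∉ q, ∃ g ∈ I, (∀ (Bh : Type u) [CommRing Bh] [Algebra B Bh] [IsLocalization.Away h Bh],
      algebraMap B Bh g ∈ nonZeroDivisors Bh ∧ I.map (algebraMap B Bh) = Ideal.span {algebraMap B Bh g}) := by
  classical
  haveI := (isDomain_and_principal A q).2
  let Bq := Localization.AtPrime q
  let pB := (under A q).map (algebraMap A Bq)
  let K := I.map (algebraMap B Bq)
  obtain ⟨c, hc⟩ := (IsPrincipalIdealRing.principal (K.map (Ideal.Quotient.mk pB))).principal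
  obtain ⟨z, hz, hzc⟩ := (Ideal.mem_map_iff_of_surjective _ Ideal.Quotient.mk_surjective).1
    (hc ▸ Submodule.mem_span_singleton_self c : c ∈ K.map (Ideal.Quotient.mk pB))
  obtain ⟨g, s, hgI, rfl⟩ : ∃ (g : B) (s : q.primeCompl), g ∈ I ∧ z = IsLocalization.mk' Bq g s := by
    obtain ⟨⟨g, s⟩, hgs⟩ := (IsLocalization.mem_map_algebraMap_iff q.primeCompl Bq).1 hz
    exact ⟨g, s, g.2, IsLocalization.eq_mk'_iff_mul_eq.2 hgs⟩
  let γ := algebraMap B Bq g
  have hzg : γ = IsLocalization.mk' Bq g s * algebraMap B Bq s := (IsLocalization.mk'_spec _ _ _).symm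
  have hsu : IsUnit (algebraMap B Bq s) := IsLocalization.map_units Bq s
  have hKle : K ≤ Ideal.span {γ} ⊔ pB * K := by
    intro x hx
    obtain ⟨d, hd⟩ := Submodule.mem_span_singleton.1 (hc ▸ Ideal.mem_map_of_mem _ hx :
      Ideal.Quotient.mk pB x ∈ Submodule.span _ {c})
    obtain ⟨d, rfl⟩ := Ideal.Quotient.mk_surjective d
    obtain ⟨u, hu⟩ := hsu
    have hzu : IsLocalization.mk' Bq g s = γ * ↑u⁻¹ := by
      rw [hzg, ← hu, mul_assoc, Units.mul_inv, mul_one]
    rw [← hzc, smul_eq_mul, ← map_mul, Ideal.Quotient.eq, hzu] at hd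
    have hγ : γ ∈ K := Ideal.mem_map_of_mem _ hgI
    have h1 : d * (γ * ↑u⁻¹) - x ∈ pB * K := by
      haveI : Module.Flat A (Bq ⧸ K) := FlatX.flat_quot_atPrime I q Bq inferInstance
      refine inf_map_le_of_flat (under A q) K ⟨K.sub_mem ?_ hx, hd⟩
      exact K.mul_mem_left _ (K.mul_mem_right _ hγ)
    rw [show x = γ * (d * ↑u⁻¹) - (d * (γ * ↑u⁻¹) - x) by ring]
    exact Ideal.sub_mem _ (Ideal.mem_sup_left (Ideal.mem_span_singleton.2 ⟨_, rfl⟩)) (Ideal.mem_sup_right h1)
  have hKeq : K ≤ Ideal.span {γ} := by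
    refine Submodule.le_of_le_smul_of_le_jacobson_bot (hfg.map _) (I := pB) ?_ hKle
    refine le_trans ?_ (IsLocalRing.maximalIdeal_le_jacobson _)
    refine Ideal.map_le_iff_le_comap.2 fun a ha => ?_
    rw [Ideal.mem_comap, IsScalarTower.algebraMap_apply A B Bq]
    exact (IsLocalization.AtPrime.to_map_mem_maximal_iff Bq q _).2 ha
  obtain ⟨T, hT⟩ := hfg
  have hs : ∀ i ∈ T, ∃ t ∉ q, t * i ∈ Ideal.span {g} := fun i hi => by
    have h1 : algebraMap B Bq i ∈ (Ideal.span {g}).map (algebraMap B Bq) := by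
      rw [Ideal.map_span, Set.image_singleton]
      exact hKeq (Ideal.mem_map_of_mem _ (hT ▸ Ideal.subset_span hi))
    exact (IsLocalization.algebraMap_mem_map_algebraMap_iff q.primeCompl Bq _ _).1 h1
  choose t ht htg using hs
  refine ⟨∏ i ∈ T.attach, t i.1 i.2, ?_, g, hgI, fun Bh _ _ _ => ?_⟩
  · exact fun h => by
      obtain ⟨i, -, hi⟩ := Ideal.IsPrime.prod_mem_iff.1 h
      exact ht _ _ hi
  set h := ∏ i ∈ T.attach, t i.1 i.2 with hdef
  have hhi : ∀ i ∈ I, h * i ∈ Ideal.span {g} := by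
    have : I ≤ Submodule.comap (LinearMap.mulLeft B h) (Ideal.span {g}) := by
      rw [← hT]
      refine Submodule.span_le.2 fun i hi => ?_
      show h * i ∈ Ideal.span {g}
      rw [hdef, ← Finset.prod_erase_mul T.attach _ (Finset.mem_attach _ ⟨i, hi⟩), mul_assoc]
      exact Ideal.mul_mem_left _ _ (htg i hi)
    exact fun i hi => this hi
  have hu : IsUnit (algebraMap B Bh h) := IsLocalization.Away.algebraMap_isUnit h
  refine ⟨?_, le_antisymm (Ideal.map_le_iff_le_comap.2 fun i hi => ?_)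
    ((Ideal.span_singleton_le_iff_mem _).2 (Ideal.mem_map_of_mem _ hgI))⟩
  swap
  · have h1 := Ideal.mem_map_of_mem (algebraMap B Bh) (hhi i hi)
    rw [Ideal.map_span, Set.image_singleton, map_mul] at h1
    exact (Ideal.unit_mul_mem_iff_mem _ hu).1 h1
  · rw [mem_nonZeroDivisors_iff_right]
    intro x hx
    obtain ⟨b, m, rfl⟩ := IsLocalization.exists_mk'_eq (Submonoid.powers h) x
    rw [mul_comm, IsLocalization.mul_mk'_eq_mk'_of_mul, IsLocalization.mk'_eq_zero_iff] at hx
    obtain ⟨m', hm'⟩ := hx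
    rw [IsLocalization.mk'_eq_zero_iff]
    by_contra hne
    let J : Ideal B := LinearMap.ker (LinearMap.toSpanSingleton B B ((m' : B) * b))
    have hJ : h ∉ J.radical := fun ⟨n, hn⟩ => hne ⟨⟨h ^ n * m', (Submonoid.powers h).mul_mem ⟨n, rfl⟩ m'.2⟩, by
      have hn' : h ^ n * ((m' : B) * b) = 0 := hn
      rw [mul_assoc]
      exact hn'⟩
    rw [Ideal.radical_eq_sInf, Submodule.mem_sInf] at hJ
    push Not at hJ
    obtain ⟨Q, ⟨hJQ, hQ⟩, hhQ⟩ := hJ
    haveI := hQ
    have hreg : IsSMulRegular (Localization.AtPrime Q) g := by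
      by_cases hgQ : g ∈ Q
      · refine isSMulRegular_of_fib_ne_zero (A := A) Q g fun h0 => not_le_of_quasiFinite A Q I ?_
        refine Ideal.map_le_iff_le_comap.2 fun i hi => ?_
        obtain ⟨w, hw⟩ := Ideal.mem_span_singleton'.1 (hhi i hi)
        have h2 := congrArg (algebraMap B (EGA4.FibLocRing A B Q)) hw
        rw [map_mul, map_mul, h0, mul_zero] at h2
        have hhu : IsUnit (algebraMap B (EGA4.FibLocRing A B Q) h) :=
          (IsLocalization.map_units (Localization.AtPrime Q) (⟨h, hhQ⟩ : (Ideal.primeCompl Q))).map (Ideal.Quotient.mk _)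
        exact Ideal.mem_comap.2 (Ideal.mem_bot.2 (hhu.mul_right_eq_zero.1 h2.symm))
      · have := IsLocalization.map_units (Localization.AtPrime Q) (⟨g, hgQ⟩ : (Ideal.primeCompl Q))
        intro x y hxy
        simp only [Algebra.smul_def] at hxy
        exact this.mul_left_cancel hxy
    have hb0 : algebraMap B (Localization.AtPrime Q) ((m' : B) * b) = 0 := by
      refine hreg ?_
      show g • _ = g • (0 : Localization.AtPrime Q)
      rw [smul_zero, Algebra.smul_def, ← map_mul, mul_left_comm, hm', map_zero]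
    obtain ⟨r, hr⟩ := (IsLocalization.map_eq_zero_iff (Ideal.primeCompl Q) _ _).1 hb0
    exact r.2 (hJQ (show (r : B) ∈ J from LinearMap.mem_ker.2 hr))

/-- A principal ideal with flat quotient cut out by a nonzerodivisor has quasi-finite quotient. -/
theorem quasiFinite_quotient (g : B) (hg : g ∈ nonZeroDivisors B) [Module.Flat A (B ⧸ Ideal.span {g})] :
    Algebra.QuasiFinite A (B ⧸ Ideal.span {g}) := by
  haveI : Algebra.IsStandardSmooth A B := Algebra.IsStandardSmoothOfRelativeDimension.isStandardSmooth 1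
  rw [Algebra.QuasiFinite.iff_finite_comap_preimage_singleton]
  intro P
  have hmin : ∀ Q Q' : PrimeSpectrum (B ⧸ Ideal.span {g}), Q ∈ PrimeSpectrum.comap (algebraMap A _) ⁻¹' {P} →
      Q' ∈ PrimeSpectrum.comap (algebraMap A _) ⁻¹' {P} → Q ≤ Q' → Q = Q' := by
    intro Q Q' hQ hQ' hle
    let q : Ideal B := Q'.asIdeal.comap (Ideal.Quotient.mk _)
    let q₀ : Ideal B := Q.asIdeal.comap (Ideal.Quotient.mk _)
    haveI := (isDomain_and_principal A q).1
    haveI := (isDomain_and_principal A q).2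
    have hPQ : under A q = P.asIdeal := congrArg PrimeSpectrum.asIdeal hQ'
    have hPQ₀ : under A q₀ = P.asIdeal := congrArg PrimeSpectrum.asIdeal hQ
    have hle₀ : q₀ ≤ q := Ideal.comap_mono hle
    have hgq₀ : g ∈ q₀ := by
      show Ideal.Quotient.mk _ g ∈ Q.asIdeal
      rw [Ideal.Quotient.eq_zero_iff_mem.2 (Ideal.mem_span_singleton_self g)]
      exact zero_mem _
    let Bq := Localization.AtPrime q
    let pB := (under A q).map (algebraMap A Bq)
    -- g is not zero on the fibre
    have hg0 : algebraMap B (EGA4.FibLocRing A B q) g ≠ 0 := by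
      intro h0
      change Ideal.Quotient.mk pB (algebraMap B Bq g) = 0 at h0
      rw [Ideal.Quotient.eq_zero_iff_mem] at h0
      let K : Ideal Bq := Ideal.span {algebraMap B Bq g}
      haveI : Module.Flat A (Bq ⧸ K) := by
        have := FlatX.flat_quot_atPrime (Ideal.span {g}) q Bq (inferInstance : Module.Flat A (B ⧸ Ideal.span {g}))
        rwa [Ideal.map_span, Set.image_singleton] at this
      have h1 := inf_map_le_of_flat (under A q) K ⟨Ideal.mem_span_singleton_self _, h0⟩
      rw [Ideal.mem_mul_span_singleton] at h1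
      obtain ⟨w, hw, hwg⟩ := h1
      have hreg : algebraMap B Bq g ∈ nonZeroDivisors Bq :=
        (IsLocalization.nonZeroDivisors_le_comap q.primeCompl Bq) hg
      have : (w - 1) * algebraMap B Bq g = 0 := by rw [sub_mul, one_mul, hwg, sub_self]
      have hw1 : w = 1 := sub_eq_zero.1 ((mem_nonZeroDivisors_iff_right.1 hreg) _ this)
      have : (1 : EGA4.FibLocRing A B q) = 0 := by
        rw [← map_one (Ideal.Quotient.mk pB), ← hw1, Ideal.Quotient.eq_zero_iff_mem]; exact hw
      exact one_ne_zero this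
    let J : Ideal (EGA4.FibLocRing A B q) := (q₀.map (algebraMap B Bq)).map (Ideal.Quotient.mk pB)
    have hJprime : J.IsPrime := by
      haveI : (q₀.map (algebraMap B Bq)).IsPrime := IsLocalization.isPrime_of_isPrime_disjoint q.primeCompl Bq q₀
        inferInstance (Set.disjoint_left.2 fun x hx hx' => hx (hle₀ hx'))
      refine Ideal.map_isPrime_of_surjective Ideal.Quotient.mk_surjective ?_
      rw [Ideal.mk_ker]
      refine Ideal.map_le_iff_le_comap.2 fun a ha => ?_
      rw [Ideal.mem_comap, IsScalarTower.algebraMap_apply A B Bq]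
      exact Ideal.mem_map_of_mem _ (hPQ₀.ge (hPQ.le ha))
    have hJne : J ≠ ⊥ := fun hJ => hg0 (Ideal.mem_bot.1 (hJ ▸
      Ideal.mem_map_of_mem _ (Ideal.mem_map_of_mem _ hgq₀)))
    have hJmax : maximalIdeal (EGA4.FibLocRing A B q) ≤ J :=
      (IsLocalRing.eq_maximalIdeal (IsPrime.to_maximal_ideal (hpi := hJprime) hJne)).ge
    refine PrimeSpectrum.ext (Ideal.comap_injective_of_surjective _ Ideal.Quotient.mk_surjective (le_antisymm hle₀ ?_))
    intro x hx
    have hxmax : algebraMap B Bq x ∈ maximalIdeal Bq := (IsLocalization.AtPrime.to_map_mem_maximal_iff Bq q x).2 hx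
    haveI := IsLocalHom.of_surjective (Ideal.Quotient.mk pB) Ideal.Quotient.mk_surjective
    have hxJ : Ideal.Quotient.mk pB (algebraMap B Bq x) ∈ J :=
      hJmax ((IsLocalRing.mem_maximalIdeal _).2 fun hu => hxmax (isUnit_of_map_unit _ _ hu))
    obtain ⟨w, hw, hwx⟩ := (Ideal.mem_map_iff_of_surjective _ Ideal.Quotient.mk_surjective).1 hxJ
    have hpq₀ : pB ≤ q₀.map (algebraMap B Bq) := by
      refine Ideal.map_le_iff_le_comap.2 fun a ha => ?_
      rw [Ideal.mem_comap, IsScalarTower.algebraMap_apply A B Bq]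
      exact Ideal.mem_map_of_mem _ (hPQ₀.ge (hPQ.le ha))
    have hx₀ : algebraMap B Bq x ∈ q₀.map (algebraMap B Bq) := by
      have h3 := hpq₀ (Ideal.Quotient.eq.1 hwx)
      have h4 := Ideal.sub_mem _ hw h3
      rwa [sub_sub_cancel] at h4
    obtain ⟨r, hr, hrx⟩ := (IsLocalization.algebraMap_mem_map_algebraMap_iff q.primeCompl Bq q₀ x).1 hx₀
    exact (Ideal.IsPrime.mem_or_mem (inferInstance : q₀.IsPrime) hrx).resolve_left fun h => hr (hle₀ h)
  let e := PrimeSpectrum.preimageOrderIsoFiber A (B ⧸ Ideal.span {g}) P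
  haveI : IsNoetherianRing (P.asIdeal.Fiber (B ⧸ Ideal.span {g})) :=
    Algebra.FiniteType.isNoetherianRing P.asIdeal.ResidueField _
  haveI : Finite (PrimeSpectrum (P.asIdeal.Fiber (B ⧸ Ideal.span {g}))) := by
    haveI : Finite (minimalPrimes (P.asIdeal.Fiber (B ⧸ Ideal.span {g}))) :=
      (minimalPrimes.finite_of_isNoetherianRing _).to_subtype
    refine Finite.of_injective (β := minimalPrimes (P.asIdeal.Fiber (B ⧸ Ideal.span {g})))
      (fun Q => ⟨Q.asIdeal, ?_⟩) fun Q Q' h => PrimeSpectrum.ext (congrArg Subtype.val h)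
    refine ⟨⟨Q.2, bot_le⟩, fun J hJ hJQ => ?_⟩
    have hle : (⟨J, hJ.1⟩ : PrimeSpectrum _) ≤ Q := hJQ
    have := hmin (e.symm ⟨J, hJ.1⟩).1 (e.symm Q).1 (e.symm ⟨J, hJ.1⟩).2 (e.symm Q).2 (e.symm.monotone hle)
    have h5 := congrArg PrimeSpectrum.asIdeal (e.symm.injective (Subtype.ext this))
    exact h5.ge
  exact Set.finite_coe_iff.1 (Finite.of_equiv _ e.symm.toEquiv)

end Groth.Agent.RelCurveDiv
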