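import Groth.Prelude.Def_EGA4b
import Mathlib

/-!
# Fibre local rings of a smooth algebra of relative dimension one

For `A → B` standard smooth of relative dimension one and a prime `q` of `B` over `p`, the ring
`C = B_q / p B_q` contains a polynomial ring over `k(p)` and its maximal ideal is principal: `C` is a
principal ideal domain.
-/

set_option autoImplicit false
set_option linter.style.haveILetI false
set_option backward.isDefEq.respectTransparency false
set_option backward.isDefEq.respectTransparency.types false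

universe u

open Polynomial IsLocalRing

namespace Groth.Agent.RelCurveDiv

variable (A : Type u) [CommRing A] {B : Type u} [CommRing B] [Algebra A B]

/-- The contraction of `q`. -/
abbrev under (q : Ideal B) : Ideal A := q.comap (algebraMap A B)

variable (q : Ideal B) [q.IsPrime]

instance : IsLocalRing (EGA4.FibLocRing A B q) := by
  haveI : Nontrivial (EGA4.FibLocRing A B q) :=
    Ideal.Quotient.nontrivial_iff.2 (ne_top_of_le_ne_top (IsLocalRing.maximalIdeal.isMaximal _).ne_top
      (Ideal.map_le_iff_le_comap.2 fun a ha => by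
        rw [Ideal.mem_comap, IsScalarTower.algebraMap_apply A B (Localization.AtPrime q),
          IsLocalization.AtPrime.to_map_mem_maximal_iff (Localization.AtPrime q) q]
        exact ha))
  exact IsLocalRing.of_surjective' (Ideal.Quotient.mk _) Ideal.Quotient.mk_surjective

theorem isUnit_fib {a : A} (ha : a ∉ under A q) : IsUnit (algebraMap A (EGA4.FibLocRing A B q) a) := by
  have h : IsUnit (algebraMap B (Localization.AtPrime q) (algebraMap A B a)) :=
    IsLocalization.map_units (Localization.AtPrime q) (⟨algebraMap A B a, ha⟩ : q.primeCompl)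
  rw [← IsScalarTower.algebraMap_apply] at h
  exact h.map (Ideal.Quotient.mk _)

theorem algebraMap_fib_eq_zero {a : A} (ha : a ∈ under A q) : algebraMap A (EGA4.FibLocRing A B q) a = 0 :=
  Ideal.Quotient.eq_zero_iff_mem.2 (Ideal.mem_map_of_mem _ ha)

/-- The structure map of the fibre local ring over `k(p)`. -/
noncomputable def fibAlg : (under A q).ResidueField →+* EGA4.FibLocRing A B q :=
  Ideal.ResidueField.lift _ (algebraMap A (EGA4.FibLocRing A B q))
    (fun _ ha => algebraMap_fib_eq_zero A q ha) (fun _ ha => isUnit_fib A q ha)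

theorem fibAlg_algebraMap (a : A) :
    fibAlg A q (algebraMap A (under A q).ResidueField a) = algebraMap A (EGA4.FibLocRing A B q) a :=
  Ideal.ResidueField.lift_algebraMap _ _ _ _ _

theorem isNoetherianRing_fib [Algebra.EssFiniteType A B] : IsNoetherianRing (EGA4.FibLocRing A B q) := by
  letI : Algebra (under A q).ResidueField (EGA4.FibLocRing A B q) := (fibAlg A q).toAlgebra
  haveI : IsScalarTower A (under A q).ResidueField (EGA4.FibLocRing A B q) :=
    IsScalarTower.of_algebraMap_eq fun a => (fibAlg_algebraMap A q a).symm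
  haveI : Algebra.EssFiniteType A (Localization.AtPrime q) := Algebra.EssFiniteType.comp A B _
  haveI : Algebra.EssFiniteType A (EGA4.FibLocRing A B q) :=
    Algebra.EssFiniteType.of_surjective (Ideal.Quotient.mkₐ A _) Ideal.Quotient.mk_surjective
  haveI : Algebra.EssFiniteType (under A q).ResidueField (EGA4.FibLocRing A B q) :=
    Algebra.EssFiniteType.of_comp A _ _
  exact Algebra.EssFiniteType.isNoetherianRing (under A q).ResidueField _

/-- The coordinate on the fibre local ring. -/
noncomputable def fibPoly (t : B) : (under A q).ResidueField[X] →+* EGA4.FibLocRing A B q :=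
  eval₂RingHom (fibAlg A q) (algebraMap B (EGA4.FibLocRing A B q) t)

theorem fibPoly_map (t : B) (f : A[X]) :
    fibPoly A q t (f.map (algebraMap A _)) = algebraMap B (EGA4.FibLocRing A B q) (aeval t f) := by
  rw [fibPoly, coe_eval₂RingHom, eval₂_map, aeval_def, hom_eval₂]
  congr 1
  ext a
  rw [RingHom.comp_apply, fibAlg_algebraMap, RingHom.comp_apply, ← IsScalarTower.algebraMap_apply]

/-- An étale coordinate. -/
theorem exists_coord [Algebra.IsStandardSmoothOfRelativeDimension 1 A B] :
    ∃ t : B, (Polynomial.aeval (R := A) t).toRingHom.Etale := by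
  obtain ⟨g, hg⟩ := Algebra.IsStandardSmoothOfRelativeDimension.exists_etale_mvPolynomial (n := 1) (R := A) (S := B)
  refine ⟨g (MvPolynomial.X default), ?_⟩
  let e := MvPolynomial.uniqueAlgEquiv A (Fin 1)
  have he : Polynomial.aeval (R := A) (g (MvPolynomial.X default)) = g.comp e.symm.toAlgHom :=
    Polynomial.algHom_ext (by simp [e])
  rw [he]
  exact RingHom.Etale.respectsIso.2 _ e.symm.toRingEquiv hg

variable [Algebra.IsStandardSmoothOfRelativeDimension 1 A B]

/-- The coordinate is transcendental on the fibre and the maximal ideal comes from it. -/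
theorem exists_coord_fib : ∃ t : B, Function.Injective (fibPoly A q t) ∧
    maximalIdeal (EGA4.FibLocRing A B q) ≤
      Ideal.map (fibPoly A q t) (Ideal.comap (fibPoly A q t) (maximalIdeal (EGA4.FibLocRing A B q))) := by
  obtain ⟨t, ht⟩ := exists_coord A (B := B)
  refine ⟨t, ?_⟩
  letI : Algebra A[X] B := (Polynomial.aeval (R := A) t).toRingHom.toAlgebra
  haveI : IsScalarTower A A[X] B := IsScalarTower.of_algebraMap_eq fun a => (Polynomial.aeval_C t a).symm
  haveI : Algebra.Etale A[X] B := ht
  let Q : Ideal A[X] := q.comap (algebraMap A[X] B)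
  letI : Algebra (Localization.AtPrime Q) (Localization.AtPrime q) :=
    (Localization.localRingHom Q q (algebraMap A[X] B) rfl).toAlgebra
  haveI : IsScalarTower A[X] (Localization.AtPrime Q) (Localization.AtPrime q) :=
    IsScalarTower.of_algebraMap_eq fun f => by
      rw [RingHom.algebraMap_toAlgebra, Localization.localRingHom_to_map, ← IsScalarTower.algebraMap_apply]
  haveI : IsLocalHom (algebraMap (Localization.AtPrime Q) (Localization.AtPrime q)) :=
    Localization.isLocalHom_localRingHom Q q _ rfl
  have hfl : (Localization.localRingHom Q q (algebraMap A[X] B) rfl).Flat :=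
    RingHom.Flat.localRingHom (RingHom.flat_algebraMap_iff.2 inferInstance) q Q rfl
  haveI : Module.Flat (Localization.AtPrime Q) (Localization.AtPrime q) := hfl
  haveI := Module.FaithfullyFlat.of_flat_of_isLocalHom
    (A := Localization.AtPrime Q) (B := Localization.AtPrime q)
  constructor
  · rw [injective_iff_map_eq_zero]
    intro F hF
    obtain ⟨b, hb⟩ := IsLocalization.integerNormalization_map_to_map (nonZeroDivisors (A ⧸ under A q)) F
    obtain ⟨f, hf⟩ := Polynomial.map_surjective (Ideal.Quotient.mk (under A q)) Ideal.Quotient.mk_surjective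
      (IsLocalization.integerNormalization (nonZeroDivisors (A ⧸ under A q)) F)
    have hfF : f.map (algebraMap A (under A q).ResidueField) =
        (b : A ⧸ under A q) • F := by
      rw [← hb, ← hf, Polynomial.map_map]
      rfl
    have hf0 : algebraMap B (EGA4.FibLocRing A B q) (aeval t f) = 0 := by
      rw [← fibPoly_map, hfF, Algebra.smul_def, map_mul, hF, mul_zero]
    have hmem : algebraMap A[X] (Localization.AtPrime q) f ∈
        ((under A q).map (C : A →+* A[X])).map (algebraMap A[X] (Localization.AtPrime q)) := by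
      rw [Ideal.map_map, IsScalarTower.algebraMap_apply A[X] B (Localization.AtPrime q)]
      have : (algebraMap A[X] (Localization.AtPrime q)).comp C = algebraMap A (Localization.AtPrime q) := by
        ext a
        rw [RingHom.comp_apply, ← Polynomial.algebraMap_eq, ← IsScalarTower.algebraMap_apply]
      rw [this]
      exact Ideal.Quotient.eq_zero_iff_mem.1 hf0
    rw [IsScalarTower.algebraMap_eq A[X] (Localization.AtPrime Q) (Localization.AtPrime q), ← Ideal.map_map,
      RingHom.comp_apply, ← Ideal.mem_comap, Ideal.comap_map_eq_self_of_faithfullyFlat,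
      IsLocalization.algebraMap_mem_map_algebraMap_iff Q.primeCompl] at hmem
    obtain ⟨s, hs, hsf⟩ := hmem
    have hpQ : (under A q).map (C : A →+* A[X]) ≤ Q := Ideal.map_le_iff_le_comap.2 fun a ha => by
      show algebraMap A[X] B (C a) ∈ q
      rw [← Polynomial.algebraMap_eq, ← IsScalarTower.algebraMap_apply]
      exact ha
    haveI : ((under A q).map (C : A →+* A[X])).IsPrime := Ideal.isPrime_map_C_of_isPrime
    have hfp : f ∈ (under A q).map (C : A →+* A[X]) :=
      (Ideal.IsPrime.mem_or_mem inferInstance hsf).resolve_left fun h => hs (hpQ h)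
    have h0 : f.map (algebraMap A (under A q).ResidueField) = 0 := by
      ext n
      rw [coeff_map, coeff_zero, Ideal.algebraMap_residueField_eq_zero]
      exact Ideal.mem_map_C_iff.1 hfp n
    rw [hfF, smul_eq_zero] at h0
    exact h0.resolve_left (nonZeroDivisors.ne_zero b.2)
  · have hmax : (maximalIdeal (Localization.AtPrime Q)).map
        (algebraMap (Localization.AtPrime Q) (Localization.AtPrime q)) = maximalIdeal (Localization.AtPrime q) := by
      haveI : Algebra.FormallyUnramified A[X] (Localization.AtPrime q) :=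
        Algebra.FormallyUnramified.comp A[X] B _
      haveI : Algebra.FormallyUnramified (Localization.AtPrime Q) (Localization.AtPrime q) :=
        Algebra.FormallyUnramified.of_restrictScalars A[X] _ _
      haveI : Algebra.EssFiniteType A[X] (Localization.AtPrime q) := Algebra.EssFiniteType.comp A[X] B _
      haveI : Algebra.EssFiniteType (Localization.AtPrime Q) (Localization.AtPrime q) :=
        Algebra.EssFiniteType.of_comp A[X] _ _
      exact Algebra.FormallyUnramified.map_maximalIdeal
    intro c hc
    obtain ⟨z, rfl⟩ := Ideal.Quotient.mk_surjective c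
    have hz : z ∈ maximalIdeal (Localization.AtPrime q) := by
      by_contra hz
      exact hc ((IsLocalRing.notMem_maximalIdeal.1 hz).map _)
    rw [← hmax, ← Localization.AtPrime.map_eq_maximalIdeal, Ideal.map_map,
      ← IsScalarTower.algebraMap_eq] at hz
    refine Ideal.mem_comap.1 ((Ideal.map_le_iff_le_comap.2 ?_) hz)
    intro f hf
    rw [Ideal.mem_comap, Ideal.mem_comap, IsScalarTower.algebraMap_apply A[X] B (Localization.AtPrime q)]
    show algebraMap B (EGA4.FibLocRing A B q) (aeval t f) ∈ _
    rw [← fibPoly_map]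
    refine Ideal.mem_map_of_mem _ (Ideal.mem_comap.2 ?_)
    rw [fibPoly_map, IsScalarTower.algebraMap_apply B (Localization.AtPrime q)]
    refine (IsLocalRing.mem_maximalIdeal _).2 fun hu => ?_
    haveI := IsLocalHom.of_surjective
      (Ideal.Quotient.mk ((under A q).map (algebraMap A (Localization.AtPrime q)))) Ideal.Quotient.mk_surjective
    have hu' := isUnit_of_map_unit (Ideal.Quotient.mk ((under A q).map (algebraMap A (Localization.AtPrime q)))) _ hu
    exact ((IsLocalization.AtPrime.to_map_mem_maximal_iff (Localization.AtPrime q) q _).2 hf) hu'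

/-- The fibre local ring is a principal ideal domain. -/
theorem isDomain_and_principal : IsDomain (EGA4.FibLocRing A B q) ∧ IsPrincipalIdealRing (EGA4.FibLocRing A B q) := by
  classical
  obtain ⟨t, hinj, hmax⟩ := exists_coord_fib A q
  haveI := Algebra.IsStandardSmoothOfRelativeDimension.isStandardSmooth (R := A) (S := B) 1
  haveI := isNoetherianRing_fib A q
  let ψ := fibPoly A q t
  obtain ⟨π₀, hπ₀⟩ := (IsPrincipalIdealRing.principal ((maximalIdeal (EGA4.FibLocRing A B q)).comap ψ)).principal
  have hgen : maximalIdeal (EGA4.FibLocRing A B q) ≤ Ideal.span {ψ π₀} := by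
    refine hmax.trans (le_of_eq ?_)
    rw [show (maximalIdeal (EGA4.FibLocRing A B q)).comap (fibPoly A q t) = Ideal.span {π₀} from hπ₀,
      Ideal.map_span, Set.image_singleton]
  have hrep : ∀ c : EGA4.FibLocRing A B q, c ≠ 0 → ∃ (u : EGA4.FibLocRing A B q) (n : ℕ), IsUnit u ∧ c = u * ψ π₀ ^ n := by
    intro c hc
    have hex : ∃ n, c ∉ maximalIdeal (EGA4.FibLocRing A B q) ^ n := by
      by_contra h
      push Not at h
      refine hc ?_
      have := Ideal.iInf_pow_eq_bot_of_isLocalRing _ (IsLocalRing.maximalIdeal.isMaximal (EGA4.FibLocRing A B q)).ne_top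
      exact Ideal.mem_bot.1 (this ▸ Ideal.mem_iInf.2 h)
    obtain ⟨n, hn⟩ : ∃ n, Nat.find hex = n + 1 := by
      refine ⟨Nat.find hex - 1, ?_⟩
      have : Nat.find hex ≠ 0 := fun h0 => by simpa [h0] using Nat.find_spec hex
      omega
    have hcn : c ∈ maximalIdeal (EGA4.FibLocRing A B q) ^ n := not_not.1 (Nat.find_min hex (by omega))
    obtain ⟨u, rfl⟩ := Ideal.mem_span_singleton'.1
      (Ideal.span_singleton_pow (ψ π₀) n ▸ Ideal.pow_right_mono hgen n hcn)
    refine ⟨u, n, ?_, rfl⟩
    by_contra hu
    apply Nat.find_spec hex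
    rw [hn, pow_succ']
    refine Ideal.mul_mem_mul hu (Ideal.pow_mem_pow ?_ n)
    exact Ideal.mem_comap.1 (hπ₀ ▸ Ideal.mem_span_singleton_self π₀ : π₀ ∈ (maximalIdeal _).comap ψ)
  have hne : ∀ n : ℕ, π₀ ≠ 0 → ψ π₀ ^ n ≠ 0 := fun n hπ h => by
    rw [← map_pow, map_eq_zero_iff ψ hinj] at h
    exact hπ (pow_eq_zero_iff'.1 h).1
  have hn0 : ∀ u (n : ℕ), IsUnit u → u * ψ π₀ ^ n ≠ 0 → π₀ = 0 → n = 0 := fun u n _ h hπ => by
    by_contra hn
    exact h (by rw [hπ, map_zero, zero_pow hn, mul_zero])
  refine ⟨?_, ?_⟩
  · haveI : NoZeroDivisors (EGA4.FibLocRing A B q) := ⟨fun {a b} hab => by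
      by_contra h
      push Not at h
      obtain ⟨u, n, hu, rfl⟩ := hrep a h.1
      obtain ⟨v, m, hv, rfl⟩ := hrep b h.2
      rw [show u * ψ π₀ ^ n * (v * ψ π₀ ^ m) = (u * v) * ψ π₀ ^ (n + m) by ring,
        (hu.mul hv).mul_right_eq_zero] at hab
      by_cases hπ : π₀ = 0
      · rw [hn0 u n hu h.1 hπ, hn0 v m hv h.2 hπ, pow_zero] at hab
        exact one_ne_zero hab
      · exact hne _ hπ hab⟩
    exact NoZeroDivisors.to_isDomain _
  · refine ⟨fun J => ?_⟩
    by_cases hJ : J = ⊥
    · exact hJ ▸ bot_isPrincipal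
    obtain ⟨c, hcJ, hc⟩ := Submodule.exists_mem_ne_zero_of_ne_bot hJ
    have hex : ∃ n, ψ π₀ ^ n ∈ J := by
      obtain ⟨u, n, hu, rfl⟩ := hrep c hc
      exact ⟨n, (Ideal.unit_mul_mem_iff_mem _ hu).1 hcJ⟩
    refine ⟨⟨ψ π₀ ^ Nat.find hex, le_antisymm (fun d hd => ?_) ((Ideal.span_singleton_le_iff_mem _).2 (Nat.find_spec hex))⟩⟩
    by_cases hd0 : d = 0
    · rw [hd0]; exact zero_mem _
    obtain ⟨u, n, hu, rfl⟩ := hrep d hd0
    have : Nat.find hex ≤ n := Nat.find_min' hex ((Ideal.unit_mul_mem_iff_mem _ hu).1 hd)
    exact Ideal.mem_span_singleton.2 (dvd_mul_of_dvd_right (pow_dvd_pow _ this) _)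

/-- An ideal with quasi-finite quotient is not zero on the fibre local ring. -/
theorem not_le_of_quasiFinite (I : Ideal B) [Algebra.QuasiFinite A (B ⧸ I)] :
    ¬ I.map (algebraMap B (EGA4.FibLocRing A B q)) ≤ ⊥ := by
  intro hI
  obtain ⟨t, hinj, -⟩ := exists_coord_fib A q
  let k := (under A q).ResidueField
  letI : Algebra k (EGA4.FibLocRing A B q) := (fibAlg A q).toAlgebra
  haveI : IsScalarTower A k (EGA4.FibLocRing A B q) :=
    IsScalarTower.of_algebraMap_eq fun a => (fibAlg_algebraMap A q a).symm
  let r : (B ⧸ I) →ₐ[A] EGA4.FibLocRing A B q := Ideal.Quotient.liftₐ I (IsScalarTower.toAlgHom A B _)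
    fun b hb => Ideal.mem_bot.1 (hI (Ideal.mem_map_of_mem _ hb))
  let φ : (under A q).Fiber (B ⧸ I) →ₐ[k] EGA4.FibLocRing A B q :=
    Algebra.TensorProduct.lift (Algebra.ofId k _) r (fun _ _ => Commute.all _ _)
  obtain ⟨f, hf, hf0⟩ : IsIntegral k (((1 : k) ⊗ₜ[A] Ideal.Quotient.mk I t : (under A q).Fiber (B ⧸ I))) :=
    Algebra.IsIntegral.isIntegral _
  rw [← aeval_def] at hf0
  have h := congrArg φ hf0
  rw [map_zero, ← Polynomial.aeval_algHom_apply] at h
  have hφ : φ ((1 : k) ⊗ₜ[A] Ideal.Quotient.mk I t) = algebraMap B (EGA4.FibLocRing A B q) t := by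
    simp only [φ, Algebra.TensorProduct.lift_tmul, map_one, one_mul]
    rfl
  rw [hφ, aeval_def] at h
  exact hf.ne_zero (hinj (h.trans (map_zero _).symm))

end Groth.Agent.RelCurveDiv
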