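import Groth.Agent.RelCurveDiv.Fibre
import Groth.Agent.FlatLoc6.Regular
import Groth.Agent.CAlgUI.Flat

/-!
# Regularity from the fibre, over an arbitrary base, for smooth curves
-/

set_option autoImplicit false
set_option linter.style.haveILetI false
set_option backward.isDefEq.respectTransparency false
set_option backward.isDefEq.respectTransparency.types false

universe u

open IsLocalRing TensorProduct

namespace Groth.Agent.RelCurveDiv

/-- The noetherian model case. -/
theorem rTensor_mul_injective (A₁ B₁ A : Type u) [CommRing A₁] [IsNoetherianRing A₁] [CommRing B₁] [Algebra A₁ B₁]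
    [Algebra.IsStandardSmoothOfRelativeDimension 1 A₁ B₁] [AddCommGroup A] [Module A₁ A]
    (q₁ : Ideal B₁) [q₁.IsPrime] (g₁ : B₁)
    (hg : algebraMap B₁ (EGA4.FibLocRing A₁ B₁ q₁) g₁ ≠ 0) :
    Function.Injective (((LinearMap.lsmul B₁ (Localization.AtPrime q₁) g₁).restrictScalars A₁).rTensor A) := by
  haveI : Algebra.IsStandardSmooth A₁ B₁ := Algebra.IsStandardSmoothOfRelativeDimension.isStandardSmooth 1
  haveI : IsNoetherianRing B₁ := Algebra.FiniteType.isNoetherianRing A₁ B₁
  let N := Localization.AtPrime q₁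
  let p₁ := under A₁ q₁
  let R := Localization.AtPrime p₁
  haveI : IsNoetherianRing R := IsLocalization.isNoetherianRing p₁.primeCompl R inferInstance
  haveI : IsNoetherianRing N := IsLocalization.isNoetherianRing q₁.primeCompl N inferInstance
  letI : Algebra R N := (Localization.localRingHom p₁ q₁ (algebraMap A₁ B₁) rfl).toAlgebra
  haveI : IsScalarTower A₁ R N := IsScalarTower.of_algebraMap_eq fun a => by
    rw [RingHom.algebraMap_toAlgebra, Localization.localRingHom_to_map, ← IsScalarTower.algebraMap_apply]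
  haveI : IsLocalHom (algebraMap R N) := Localization.isLocalHom_localRingHom p₁ q₁ _ rfl
  have hfl : (Localization.localRingHom p₁ q₁ (algebraMap A₁ B₁) rfl).Flat :=
    RingHom.Flat.localRingHom (RingHom.flat_algebraMap_iff.2 inferInstance) q₁ p₁ rfl
  haveI : Module.Flat R N := hfl
  let y : N := algebraMap B₁ N g₁
  have hm : (maximalIdeal R).map (algebraMap R N) = p₁.map (algebraMap A₁ N) := by
    rw [← Localization.AtPrime.map_eq_maximalIdeal, Ideal.map_map, ← IsScalarTower.algebraMap_eq]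
  have hmem : ∀ n : N, n ∈ FlatLoc6.mN R N N ↔ Ideal.Quotient.mk (p₁.map (algebraMap A₁ N)) n = 0 := fun n => by
    rw [Ideal.Quotient.eq_zero_iff_mem, FlatLoc6.mN, smul_eq_mul, Ideal.mul_top, hm]
  haveI := (isDomain_and_principal A₁ q₁).1
  have hy : FlatLoc6.RegFib R N y := fun n hn => by
    rw [hmem] at hn ⊢
    rw [smul_eq_mul, map_mul] at hn
    exact (mul_eq_zero.1 hn).resolve_left hg
  let μ : N →ₗ[A₁] N := (LinearMap.lsmul B₁ N g₁).restrictScalars A₁
  have hμ : ∀ n, μ n = y • n := fun n => by simp [μ, y, Algebra.smul_def]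
  have hinj : Function.Injective μ := fun a b h => FlatLoc6.regular_self hy (by simpa only [hμ] using h)
  let π : N →ₗ[A₁] QuotSMulTop y N := (Submodule.mkQ _).restrictScalars A₁
  have hex : Function.Exact μ π := fun n => by
    show Submodule.Quotient.mk n = (0 : QuotSMulTop y N) ↔ _
    rw [Submodule.Quotient.mk_eq_zero, Submodule.mem_smul_pointwise_iff_exists]
    exact ⟨fun ⟨k, _, hk⟩ => ⟨k, (hμ k).trans hk⟩, fun ⟨k, hk⟩ => ⟨k, Submodule.mem_top, (hμ k).symm.trans hk⟩⟩
  haveI := FlatLoc6.flat_quotSMulTop hy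
  haveI : Module.Flat A₁ (QuotSMulTop y N) := Module.Flat.trans A₁ R _
  exact CAlgUI.ui_of_flat_quotient hinj hex (Submodule.mkQ_surjective _) A

variable {A B : Type u} [CommRing A] [CommRing B] [Algebra A B]
  [Algebra.IsStandardSmoothOfRelativeDimension 1 A B]

/-- An element which is not zero on the fibre local ring is a nonzerodivisor at that point. -/
theorem isSMulRegular_of_fib_ne_zero (q : Ideal B) [q.IsPrime] (g : B)
    (hg : algebraMap B (EGA4.FibLocRing A B q) g ≠ 0) : IsSMulRegular (Localization.AtPrime q) g := by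
  classical
  obtain ⟨A₀, B₀, _, _, hfg, hsm, ⟨e⟩⟩ :=
    Algebra.IsStandardSmoothOfRelativeDimension.exists_subalgebra_fg ℤ A B 1
  obtain ⟨S, hS⟩ := TensorProduct.exists_finset (e g)
  let A₁ : Subalgebra ℤ A := A₀ ⊔ Algebra.adjoin ℤ (S.image Prod.fst : Set A)
  haveI : Algebra.FiniteType ℤ A₁ :=
    (Subalgebra.fg_iff_finiteType A₁).1 (hfg.sup (Subalgebra.fg_adjoin_finset _))
  haveI : IsNoetherianRing A₁ := Algebra.FiniteType.isNoetherianRing ℤ A₁
  have h01 : A₀ ≤ A₁ := le_sup_left
  letI : Algebra A₀ A₁ := (Subalgebra.inclusion h01).toRingHom.toAlgebra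
  haveI : IsScalarTower A₀ A₁ A := IsScalarTower.of_algebraMap_eq fun _ => rfl
  haveI : SMulCommClass A₁ A₀ A := ⟨fun a b c => by simp only [Algebra.smul_def]; ring⟩
  let B₁ := A₁ ⊗[A₀] B₀
  have hmemS : ∀ i ∈ S, i.1 ∈ A₁ := fun i hi =>
    (le_sup_right : _ ≤ A₁) (Algebra.subset_adjoin (Finset.mem_image_of_mem _ hi))
  let g₁ : B₁ := ∑ i ∈ S.attach, (⟨i.1.1, hmemS i.1 i.2⟩ : A₁) ⊗ₜ[A₀] i.1.2
  let θ : B₁ ⊗[A₁] A ≃+* B :=
    ((Algebra.TensorProduct.comm A₁ B₁ A).toRingEquiv.trans
      (Algebra.TensorProduct.cancelBaseChange A₀ A₁ A A B₀).toRingEquiv).trans e.symm.toRingEquiv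
  have hθA : ∀ a : A, θ (1 ⊗ₜ a) = algebraMap A B a := fun a => by
    show e.symm ((Algebra.TensorProduct.cancelBaseChange A₀ A₁ A A B₀) (a ⊗ₜ (1 : B₁))) = _
    rw [Algebra.TensorProduct.one_def, Algebra.TensorProduct.cancelBaseChange_tmul, one_smul,
      show a ⊗ₜ[A₀] (1 : B₀) = algebraMap A (A ⊗[A₀] B₀) a from rfl, e.symm.commutes]
  have hθg : θ (g₁ ⊗ₜ 1) = g := by
    apply e.injective
    show e (e.symm ((Algebra.TensorProduct.cancelBaseChange A₀ A₁ A A B₀) ((1 : A) ⊗ₜ g₁))) = e g
    rw [e.apply_symm_apply, hS, TensorProduct.tmul_sum, map_sum, ← S.sum_attach (fun i => i.1 ⊗ₜ[A₀] i.2)]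
    refine Finset.sum_congr rfl fun i _ => ?_
    rw [Algebra.TensorProduct.cancelBaseChange_tmul]
    congr 1
    exact (Algebra.smul_def _ _).trans (mul_one _)
  let φ : B₁ →+* B := θ.toRingHom.comp Algebra.TensorProduct.includeLeftRingHom
  have hφg : φ g₁ = g := hθg
  have hφA : ∀ a : A₁, φ (algebraMap A₁ B₁ a) = algebraMap A B (a : A) := fun a => by
    rw [← hθA]
    show θ (algebraMap A₁ B₁ a ⊗ₜ 1) = _
    rw [Algebra.algebraMap_eq_smul_one (A := B₁), TensorProduct.smul_tmul]
    congr 2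
    exact (Algebra.smul_def _ _).trans (mul_one _)
  let q₁ : Ideal B₁ := q.comap φ
  have hg₁ : algebraMap B₁ (EGA4.FibLocRing A₁ B₁ q₁) g₁ ≠ 0 := by
    intro h
    apply hg
    let Φ : Localization.AtPrime q₁ →+* Localization.AtPrime q := Localization.localRingHom q₁ q φ rfl
    have hle : (under A₁ q₁).map (algebraMap A₁ (Localization.AtPrime q₁)) ≤
        ((under A q).map (algebraMap A (Localization.AtPrime q))).comap Φ := by
      refine Ideal.map_le_iff_le_comap.2 fun a ha => ?_
      rw [Ideal.mem_comap, Ideal.mem_comap, IsScalarTower.algebraMap_apply A₁ B₁ (Localization.AtPrime q₁),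
        Localization.localRingHom_to_map, hφA, ← IsScalarTower.algebraMap_apply]
      refine Ideal.mem_map_of_mem _ ?_
      show algebraMap A B (a : A) ∈ q
      rw [← hφA]
      exact ha
    change Ideal.Quotient.mk _ (algebraMap B₁ (Localization.AtPrime q₁) g₁) = 0 at h
    rw [Ideal.Quotient.eq_zero_iff_mem] at h
    have h2 := Ideal.mem_comap.1 (hle h)
    rw [Localization.localRingHom_to_map, hφg] at h2
    show Ideal.Quotient.mk _ (algebraMap B (Localization.AtPrime q) g) = 0
    rw [Ideal.Quotient.eq_zero_iff_mem]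
    exact h2
  have hinj := rTensor_mul_injective A₁ B₁ A q₁ g₁ hg₁
  rw [isSMulRegular_iff_right_eq_zero_of_smul]
  intro z hz
  obtain ⟨b, s, rfl⟩ := IsLocalization.exists_mk'_eq q.primeCompl z
  rw [Algebra.smul_def, IsLocalization.mul_mk'_eq_mk'_of_mul, IsLocalization.mk'_eq_zero_iff] at hz
  obtain ⟨s', hs'⟩ := hz
  let x : B₁ ⊗[A₁] A := θ.symm ((s' : B) * b)
  have hgx : g₁ • x = 0 := by
    apply θ.injective
    rw [map_zero, show g₁ • x = (g₁ ⊗ₜ[A₁] (1 : A)) * x from Algebra.smul_def g₁ x, map_mul, hθg,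
      θ.apply_symm_apply, mul_left_comm]
    exact hs'
  let L := AlgebraTensorModule.rTensor A₁ A (Algebra.linearMap B₁ (Localization.AtPrime q₁))
  have hLx : L x = 0 := by
    apply hinj
    rw [map_zero]
    have key : ∀ w : Localization.AtPrime q₁ ⊗[A₁] A,
        ((LinearMap.lsmul B₁ (Localization.AtPrime q₁) g₁).restrictScalars A₁).rTensor A w = g₁ • w := by
      intro w
      induction w using TensorProduct.induction_on with
      | zero => exact (map_zero _).trans (TensorProduct.smul_zero g₁).symm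
      | tmul n a => simp [TensorProduct.smul_tmul']
      | add w w' hw hw' => exact ((map_add _ _ _).trans (congrArg₂ (· + ·) hw hw')).trans (TensorProduct.smul_add g₁ w w').symm
    rw [key, ← map_smul, hgx, map_zero]
  obtain ⟨c, hc⟩ := (IsLocalizedModule.eq_zero_iff q₁.primeCompl L).1 hLx
  have hc0 : φ c * ((s' : B) * b) = 0 := by
    have := congrArg θ hc
    rwa [map_zero, show c • x = ((c : B₁) ⊗ₜ[A₁] (1 : A)) * x from Algebra.smul_def (c : B₁) x, map_mul,
      θ.apply_symm_apply] at this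
  rw [IsLocalization.mk'_eq_zero_iff]
  exact ⟨⟨φ c * s', q.primeCompl.mul_mem c.2 s'.2⟩, by rw [← hc0]; simp only [mul_assoc]⟩

end Groth.Agent.RelCurveDiv
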