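import Mathlib

/-!
# Additivity of the rank for a sum of two principal divisors
-/

set_option autoImplicit false
set_option linter.style.haveILetI false

universe u

namespace Groth.Agent.RelCurveDiv

variable {A R : Type u} [CommRing A] [CommRing R] [Algebra A R]

/-- Two ideals which look like those of `a` and `b` in `B / (a * b)`. -/
def IsPair (K₁ K₂ : Ideal R) : Prop :=
  ∃ a b : R, K₁ = Ideal.span {a} ∧ K₂ = Ideal.span {b} ∧ a * b = 0 ∧ ∀ r, r * a = 0 → r ∈ K₂

theorem isPair_of_span {B : Type u} [CommRing B] (π : B →+* R) (hπ : Function.Surjective π) (a b : B)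
    (ha : a ∈ nonZeroDivisors B) (hker : RingHom.ker π = Ideal.span {a * b}) :
    IsPair ((Ideal.span {a}).map π) ((Ideal.span {b}).map π) := by
  refine ⟨π a, π b, ?_, ?_, ?_, fun r hr => ?_⟩
  · rw [Ideal.map_span, Set.image_singleton]
  · rw [Ideal.map_span, Set.image_singleton]
  · rw [← map_mul, ← RingHom.mem_ker, hker]
    exact Ideal.mem_span_singleton_self _
  · obtain ⟨r, rfl⟩ := hπ r
    rw [← map_mul, ← RingHom.mem_ker, hker, Ideal.mem_span_singleton'] at hr
    obtain ⟨c, hc⟩ := hr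
    have h0 : (c * b - r) * a = 0 := by linear_combination hc
    rw [← sub_eq_zero.1 (mem_nonZeroDivisors_iff_right.1 ha _ h0)]
    exact Ideal.mem_map_of_mem π (Ideal.mul_mem_left _ c (Ideal.mem_span_singleton_self b))

theorem IsPair.map {K₁ K₂ : Ideal R} (h : IsPair K₁ K₂) (M : Submonoid R) (T : Type u) [CommRing T]
    [Algebra R T] [IsLocalization M T] :
    IsPair (K₁.map (algebraMap R T)) (K₂.map (algebraMap R T)) := by
  obtain ⟨a, b, h₁, h₂, hab, hann⟩ := h
  refine ⟨algebraMap R T a, algebraMap R T b, ?_, ?_, ?_, fun t ht => ?_⟩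
  · rw [h₁, Ideal.map_span, Set.image_singleton]
  · rw [h₂, Ideal.map_span, Set.image_singleton]
  · rw [← map_mul, hab, map_zero]
  · obtain ⟨⟨r, s⟩, hs⟩ := IsLocalization.surj M t
    have h0 : algebraMap R T (r * a) = 0 := by
      rw [map_mul]
      show algebraMap R T (r, s).1 * algebraMap R T a = 0
      rw [← hs, mul_right_comm, ht, zero_mul]
    obtain ⟨s', hs'⟩ := (IsLocalization.map_eq_zero_iff M T _).1 h0
    have hm : ↑s' * r ∈ K₂ := hann _ (by rw [mul_assoc]; exact hs')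
    have hu : IsUnit (algebraMap R T (s' * s : M)) := IsLocalization.map_units T _
    refine (Ideal.unit_mul_mem_iff_mem _ hu).1 ?_
    rw [Submonoid.coe_mul, map_mul, mul_assoc, mul_comm (algebraMap R T (s : R)) t,
      show t * algebraMap R T (s : R) = algebraMap R T r from hs, ← map_mul]
    exact Ideal.mem_map_of_mem _ hm

/-- The pointwise consequence of `IsPair` on a basic open. -/
def LocPair (K₁ K₂ Q : Ideal R) : Prop :=
  (∀ y ∈ K₁, ∀ z ∈ K₂, ∃ s ∉ Q, s * (y * z) = 0) ∧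
    ∃ a ∈ K₁, (∀ y ∈ K₁, ∃ s ∉ Q, s * y ∈ Ideal.span {a}) ∧ ∀ r, r * a = 0 → ∃ s ∉ Q, s * r ∈ K₂

theorem locPair_of_isPair {K₁ K₂ Q : Ideal R} [Q.IsPrime] (h : R) (hQ : h ∉ Q) (T : Type u) [CommRing T]
    [Algebra R T] [IsLocalization.Away h T]
    (hP : IsPair (K₁.map (algebraMap R T)) (K₂.map (algebraMap R T))) : LocPair K₁ K₂ Q := by
  obtain ⟨a, b, h₁, h₂, hab, hann⟩ := hP
  have hM : ∀ s ∈ Submonoid.powers h, s ∉ Q := by
    rintro s ⟨n, rfl⟩ hs
    exact hQ (Ideal.IsPrime.mem_of_pow_mem inferInstance n hs)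
  have ha : a ∈ K₁.map (algebraMap R T) := h₁ ▸ Ideal.mem_span_singleton_self a
  obtain ⟨⟨⟨a', ha'⟩, s₀⟩, hs₀⟩ := (IsLocalization.mem_map_algebraMap_iff (Submonoid.powers h) T).1 ha
  have hu : IsUnit (algebraMap R T (s₀ : R)) := IsLocalization.map_units T s₀
  refine ⟨fun y hy z hz => ?_, a', ha', fun y hy => ?_, fun r hr => ?_⟩
  · obtain ⟨c, hc⟩ := Ideal.mem_span_singleton'.1 (h₁ ▸ Ideal.mem_map_of_mem (algebraMap R T) hy)
    obtain ⟨d, hd⟩ := Ideal.mem_span_singleton'.1 (h₂ ▸ Ideal.mem_map_of_mem (algebraMap R T) hz)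
    have h0 : algebraMap R T (y * z) = 0 := by
      rw [map_mul, ← hc, ← hd]
      linear_combination c * d * hab
    obtain ⟨s, hs⟩ := (IsLocalization.map_eq_zero_iff (Submonoid.powers h) T _).1 h0
    exact ⟨s, hM _ s.2, hs⟩
  · obtain ⟨c, hc⟩ := Ideal.mem_span_singleton'.1 (h₁ ▸ Ideal.mem_map_of_mem (algebraMap R T) hy)
    have hmem : algebraMap R T y ∈ (Ideal.span {a'}).map (algebraMap R T) := by
      rw [Ideal.map_span, Set.image_singleton, show algebraMap R T a' = a * algebraMap R T (s₀ : R) from hs₀.symm,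
        Ideal.mem_span_singleton, ← hc, hu.mul_right_dvd]
      exact dvd_mul_left a c
    obtain ⟨s, hs, hsy⟩ := (IsLocalization.algebraMap_mem_map_algebraMap_iff (Submonoid.powers h) T _ _).1 hmem
    exact ⟨s, hM _ hs, hsy⟩
  · have h0 : algebraMap R T r * a = 0 := by
      refine hu.mul_left_eq_zero.1 ?_
      rw [mul_assoc, show a * algebraMap R T (s₀ : R) = algebraMap R T a' from hs₀, ← map_mul, hr, map_zero]
    obtain ⟨s, hs, hsr⟩ :=
      (IsLocalization.algebraMap_mem_map_algebraMap_iff (Submonoid.powers h) T _ _).1 (hann _ h0)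
    exact ⟨s, hM _ hs, hsr⟩

theorem mul_eq_zero_of_locPair {K₁ K₂ : Ideal R} (h : ∀ Q : Ideal R, Q.IsPrime → LocPair K₁ K₂ Q)
    {y z : R} (hy : y ∈ K₁) (hz : z ∈ K₂) : y * z = 0 := by
  by_contra hne
  let J : Ideal R := (⊥ : Ideal R).colon {y * z}
  have hJ : J ≠ ⊤ := fun hJ => hne (by
    simpa [J, Submodule.mem_colon_singleton] using ((hJ ▸ Submodule.mem_top : (1 : R) ∈ J)))
  obtain ⟨Q, hQ, hJQ⟩ := Ideal.exists_le_maximal J hJ
  obtain ⟨s, hs, hs0⟩ := (h Q hQ.isPrime).1 y hy z hz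
  exact hs (hJQ (Submodule.mem_colon_singleton.2 (by rw [smul_eq_mul, hs0]; exact zero_mem _)))

/-- An element generating at all primes over `p`. -/
theorem exists_gen [Module.Finite A R] (p : Ideal A) [p.IsPrime] {K₁ K₂ : Ideal R}
    (h : ∀ Q : Ideal R, Q.IsPrime → LocPair K₁ K₂ Q) :
    ∃ x ∈ K₁, (∀ y ∈ K₁, ∃ s ∉ p, algebraMap A R s * y ∈ Ideal.span {x}) ∧
      ∀ r, r * x = 0 → ∃ s ∉ p, algebraMap A R s * r ∈ K₂ := by
  classical
  haveI : Algebra.IsIntegral A R := Algebra.IsIntegral.of_finite A R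
  haveI : Fintype (p.primesOver R) := (Algebra.QuasiFinite.finite_primesOver p).fintype
  haveI hprime : ∀ Q : p.primesOver R, Q.1.IsPrime := fun Q => Q.2.1
  choose a ha hgen hann using fun Q : p.primesOver R => (h Q.1 Q.2.1).2
  have hsep : ∀ Q : p.primesOver R, ∃ e, e ∉ Q.1 ∧ ∀ Q', Q' ≠ Q → e ∈ Q'.1 := by
    intro Q
    have hinc : ∀ Q' : p.primesOver R, Q' ≠ Q → ∃ e ∈ Q'.1, e ∉ Q.1 := fun Q' hne => by
      haveI := Q.2.2; haveI := Q'.2.2
      by_contra hle
      push Not at hle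
      refine hne (Subtype.ext ?_)
      by_contra hne'
      have hlt : Q'.1 < Q.1 := lt_of_le_of_ne hle hne'
      have := Ideal.comap_lt_comap_of_integral_mem_sdiff (R := A) hlt.le
        ((Set.not_subset.1 hlt.not_ge).choose_spec) (Algebra.IsIntegral.isIntegral _)
      have e₁ : p = Q'.1.comap (algebraMap A R) := Ideal.LiesOver.over
      have e₂ : p = Q.1.comap (algebraMap A R) := Ideal.LiesOver.over
      rw [← e₁, ← e₂] at this
      exact lt_irrefl _ this
    choose e he he' using hinc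
    refine ⟨∏ Q' ∈ (Finset.univ.erase Q).attach, e Q'.1 (Finset.ne_of_mem_erase Q'.2), fun hmem => ?_, fun Q' hne => ?_⟩
    · obtain ⟨Q', -, hQ'⟩ := (hprime Q).prod_mem_iff.1 hmem
      exact he' _ _ hQ'
    · exact (hprime Q').prod_mem_iff.2
        ⟨⟨Q', Finset.mem_erase.2 ⟨hne, Finset.mem_univ _⟩⟩, Finset.mem_attach _ _, he _ _⟩
  choose e he he' using hsep
  let x := ∑ Q, e Q * a Q
  have hxK : x ∈ K₁ := sum_mem fun Q _ => Ideal.mul_mem_left _ _ (ha Q)
  have hmul : ∀ Q : p.primesOver R, ∃ u s, u ∉ Q.1 ∧ s ∉ Q.1 ∧ s * x = u * a Q := by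
    intro Q
    have hc : ∀ Q' : p.primesOver R, ∃ s c, s ∉ Q.1 ∧ c * a Q = s * a Q' := fun Q' => by
      obtain ⟨s, hs, hsa⟩ := hgen Q (a Q') (ha Q')
      obtain ⟨c, hc⟩ := Ideal.mem_span_singleton'.1 hsa
      exact ⟨s, c, hs, hc⟩
    choose s c hs hc using hc
    let S := ∏ Q' ∈ Finset.univ.erase Q, s Q'
    have hS : S ∉ Q.1 := fun hm => by
      obtain ⟨Q', -, hQ'⟩ := (hprime Q).prod_mem_iff.1 hm
      exact hs _ hQ'
    refine ⟨S * e Q + ∑ Q' ∈ Finset.univ.erase Q, (∏ Q'' ∈ (Finset.univ.erase Q).erase Q', s Q'') * c Q' * e Q',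
      S, fun hm => ?_, hS, ?_⟩
    · have h2 : ∑ Q' ∈ Finset.univ.erase Q, (∏ Q'' ∈ (Finset.univ.erase Q).erase Q', s Q'') * c Q' * e Q' ∈ Q.1 :=
        sum_mem fun Q' hQ' => Ideal.mul_mem_left _ _ (he' Q' Q (Finset.ne_of_mem_erase hQ').symm)
      exact ((hprime Q).mem_or_mem ((Ideal.add_mem_iff_left _ h2).1 hm)).elim hS (he Q)
    · simp only [x]
      rw [← Finset.add_sum_erase _ _ (Finset.mem_univ Q), mul_add, add_mul, Finset.mul_sum, Finset.sum_mul,
        mul_assoc]
      congr 1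
      refine Finset.sum_congr rfl fun Q' hQ' => ?_
      rw [show S = s Q' * ∏ Q'' ∈ (Finset.univ.erase Q).erase Q', s Q'' from
        (Finset.mul_prod_erase _ _ hQ').symm]
      linear_combination -((∏ Q'' ∈ (Finset.univ.erase Q).erase Q', s Q'') * e Q') * hc Q'
  have hfin : ∀ J : Ideal R, (∀ Q : p.primesOver R, ∃ s ∈ J, s ∉ Q.1) → ∃ s ∉ p, algebraMap A R s ∈ J := by
    intro J hJ
    by_contra hcon
    push Not at hcon
    obtain ⟨Q, hJQ, hQ, hQp⟩ := Ideal.exists_ideal_over_prime_of_isIntegral p J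
      (fun r hr => by_contra fun hn => hcon r hn hr)
    obtain ⟨s, hs, hs'⟩ := hJ ⟨Q, hQ, ⟨hQp.symm⟩⟩
    exact hs' (hJQ hs)
  refine ⟨x, hxK, fun y hy => ?_, fun r hr => ?_⟩
  · obtain ⟨s, hs, hsy⟩ := hfin ((Ideal.span {x}).colon {y}) fun Q => by
      obtain ⟨u, S, hu, hS, he⟩ := hmul Q
      obtain ⟨t, ht, hty⟩ := hgen Q y hy
      obtain ⟨c, hc⟩ := Ideal.mem_span_singleton'.1 hty
      refine ⟨u * t, Submodule.mem_colon_singleton.2 ?_, fun hm => ((hprime Q).mem_or_mem hm).elim hu ht⟩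
      rw [smul_eq_mul, Ideal.mem_span_singleton']
      exact ⟨c * S, by linear_combination c * he + u * hc⟩
    exact ⟨s, hs, Submodule.mem_colon_singleton.1 hsy⟩
  · obtain ⟨s, hs, hsr⟩ := hfin (K₂.colon {r}) fun Q => by
      obtain ⟨u, S, hu, -, he⟩ := hmul Q
      obtain ⟨t, ht, htr⟩ := hann Q (u * r) (by linear_combination -r * he + S * hr)
      refine ⟨t * u, Submodule.mem_colon_singleton.2 ?_, fun hm => ((hprime Q).mem_or_mem hm).elim ht hu⟩
      rwa [smul_eq_mul, mul_assoc]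
    exact ⟨s, hs, Submodule.mem_colon_singleton.1 hsr⟩

/-- Additivity of the rank. -/
theorem rankAtStalk_eq_add [Module.Finite A R] [Module.Flat A R] {R₁ R₂ : Type u} [CommRing R₁] [CommRing R₂]
    [Algebra A R₁] [Algebra A R₂] [Module.Finite A R₁] [Module.Flat A R₁] [Module.Finite A R₂]
    [Algebra.FinitePresentation A R₁]
    (π₁ : R →ₐ[A] R₁) (π₂ : R →ₐ[A] R₂) (h₁ : Function.Surjective π₁) (h₂ : Function.Surjective π₂)
    (hloc : ∀ Q : Ideal R, Q.IsPrime → LocPair (RingHom.ker π₁) (RingHom.ker π₂) Q) (p : PrimeSpectrum A) :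
    Module.rankAtStalk (R := A) R p = Module.rankAtStalk (R := A) R₁ p + Module.rankAtStalk (R := A) R₂ p := by
  classical
  haveI : Module.FinitePresentation A R₁ := Module.FinitePresentation.of_finite_of_finitePresentation A R₁
  haveI : Module.Projective A R₁ := Module.Flat.projective_of_finitePresentation
  obtain ⟨l, hl⟩ := Module.projective_lifting_property π₁.toLinearMap (LinearMap.id (R := A) (M := R₁)) h₁
  have hl' : ∀ y, π₁ (l y) = y := fun y => LinearMap.congr_fun hl y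
  let K := LinearMap.ker π₁.toLinearMap
  let pr : R →ₗ[A] K := LinearMap.codRestrict _ (LinearMap.id - l ∘ₗ π₁.toLinearMap) fun r => by
    simp [K, hl']
  let e : R ≃ₗ[A] K × R₁ :=
    { toLinearMap := pr.prod π₁.toLinearMap
      invFun := fun z => z.1.1 + l z.2
      left_inv := fun r => by simp [pr]
      right_inv := fun z => by
        have hz : π₁ z.1.1 = 0 := z.1.2
        refine Prod.ext (Subtype.ext ?_) ?_ <;> simp [pr, hl', hz] }
  haveI : Module.Finite A K := Module.Finite.of_surjective pr fun z => ⟨z.1, Subtype.ext (by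
    simp [pr, show π₁ z.1 = 0 from z.2])⟩
  haveI : Module.Flat A K := Module.Flat.of_retract K.subtype pr (LinearMap.ext fun z => Subtype.ext (by
    simp [pr, show π₁ z.1 = 0 from z.2]))
  obtain ⟨x, hx, hgen, hann⟩ := exists_gen (K₁ := RingHom.ker π₁) p.asIdeal hloc
  let φ : R →ₗ[A] K := LinearMap.codRestrict _ (LinearMap.mulRight A x) fun r => by
    show π₁ (r * x) = 0
    rw [map_mul, show π₁ x = 0 from hx, mul_zero]
  have hφ : LinearMap.ker π₂.toLinearMap ≤ LinearMap.ker φ := fun r hr =>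
    Subtype.ext ((mul_comm r x).trans (mul_eq_zero_of_locPair hloc hx hr))
  let q := LinearMap.quotKerEquivOfSurjective π₂.toLinearMap h₂
  let ψ : R₂ →ₗ[A] K := (LinearMap.ker π₂.toLinearMap).liftQ φ hφ ∘ₗ q.symm.toLinearMap
  have hψ : ∀ r, ψ (π₂ r) = φ r := fun r => by
    have hq : q.symm (π₂ r) = Submodule.Quotient.mk r := q.symm_apply_eq.2 rfl
    simp [ψ, hq]
  have hbij : Function.Bijective (LocalizedModule.map p.asIdeal.primeCompl ψ) := by
    constructor
    · rw [injective_iff_map_eq_zero]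
      intro z hz
      induction z using LocalizedModule.induction_on with
      | h m s =>
        rw [LocalizedModule.map_mk, IsLocalizedModule.mk_eq_mk'] at hz
        obtain ⟨c, hc⟩ := (IsLocalizedModule.mk'_eq_zero' _ _).1 hz
        obtain ⟨r, rfl⟩ := h₂ m
        rw [hψ] at hc
        have hrx : (c.1 • r) * x = 0 := by
          rw [smul_mul_assoc]; exact congrArg Subtype.val hc
        obtain ⟨t, ht, htr⟩ := hann _ hrx
        rw [IsLocalizedModule.mk_eq_mk', IsLocalizedModule.mk'_eq_zero']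
        refine ⟨⟨t, ht⟩ * c, ?_⟩
        show (t * c.1) • π₂ r = 0
        rw [mul_smul, ← map_smul, ← map_smul, Algebra.smul_def]
        exact htr
    · intro z
      induction z using LocalizedModule.induction_on with
      | h y s =>
        obtain ⟨t, ht, hty⟩ := hgen y.1 y.2
        obtain ⟨c, hc⟩ := Ideal.mem_span_singleton'.1 hty
        refine ⟨LocalizedModule.mk (π₂ c) (⟨t, ht⟩ * s), ?_⟩
        rw [LocalizedModule.map_mk, hψ, LocalizedModule.mk_eq]
        refine ⟨1, ?_⟩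
        rw [one_smul, one_smul]
        refine Subtype.ext ?_
        show s.1 • (c * x) = (t * s.1) • y.1
        rw [hc, mul_comm t, mul_smul, Algebra.smul_def t]
  have hR₂ : Module.rankAtStalk (R := A) R₂ p = Module.rankAtStalk (R := A) K p :=
    (LinearEquiv.ofBijective _ hbij).finrank_eq
  rw [Module.rankAtStalk_eq_of_equiv e, Module.rankAtStalk_prod, Pi.add_apply, hR₂, add_comm]

end Groth.Agent.RelCurveDiv
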