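import Groth.Agent.RelCurveDiv.Scheme
import Groth.Agent.RelCurveDiv.SumAlg
import Groth.Agent.ModPairLib.Quot
import Groth.Agent.H23.CoverPush
import Groth.Agent.DescLib.SepSurj

/-!
# The sum of two relative divisors on a smooth curve
-/

set_option autoImplicit false
set_option linter.style.haveILetI false
set_option backward.isDefEq.respectTransparency false
set_option backward.isDefEq.respectTransparency.types false

universe u

open CategoryTheory CategoryTheory.Limits AlgebraicGeometry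

namespace Groth.Agent.RelCurveDiv

open Groth.Agent.H23 (CoverPush.alg CoverPush.finrank_eq)

variable {X S : Scheme.{u}}

theorem ker_ideal_subscheme {D : Scheme.{u}} (ι : D ⟶ X) [IsClosedImmersion ι] (I : X.IdealSheafData)
    (j : I.subscheme ⟶ D) [IsClosedImmersion j] (h : j ≫ ι = I.subschemeι) (U : X.affineOpens) :
    j.ker.ideal ⟨ι ⁻¹ᵁ U.1, U.2.preimage ι⟩ = (I.ideal U).map (ι.app U.1).hom := by
  have h1 : ∀ (h' : I.subscheme ⟶ X), h' = I.subschemeι → RingHom.ker (h'.app U.1).hom = I.ideal U := by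
    rintro _ rfl
    exact I.ker_subschemeι_app U
  have h2 := h1 _ h
  rw [Scheme.Hom.comp_app, CommRingCat.hom_comp, ← RingHom.comap_ker] at h2
  rw [Scheme.Hom.ker_apply, ← h2, Ideal.map_comap_of_surjective _ (ι.app_surjective U.1 U.2)]

/-- The rank of a union of two closed subschemes which is locally a sum of principal divisors. -/
theorem finrank_add {D D₁ D₂ : Scheme.{u}} (g : D ⟶ S) (j₁ : D₁ ⟶ D) (j₂ : D₂ ⟶ D)
    [IsClosedImmersion j₁] [IsClosedImmersion j₂] [IsFinite g] [Flat g]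
    [Flat (j₁ ≫ g)] [LocallyOfFinitePresentation (j₁ ≫ g)] [Flat (j₂ ≫ g)]
    (hpair : ∀ z : D, ∃ V : D.affineOpens, z ∈ V.1 ∧ IsPair (j₁.ker.ideal V) (j₂.ker.ideal V)) (s : S) :
    g.finrank s = (j₁ ≫ g).finrank s + (j₂ ≫ g).finrank s := by
  obtain ⟨_, ⟨W, hW, rfl⟩, hsW, -⟩ :=
    S.isBasis_affineOpens.exists_subset_of_mem_open (Set.mem_univ s) isOpen_univ
  let V : D.affineOpens := ⟨g ⁻¹ᵁ W, hW.preimage g⟩
  letI := CoverPush.alg g W
  letI := CoverPush.alg (j₁ ≫ g) W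
  letI := CoverPush.alg (j₂ ≫ g) W
  let A := Γ(S, W)
  let R := Γ(D, g ⁻¹ᵁ W)
  let R₁ := Γ(D₁, (j₁ ≫ g) ⁻¹ᵁ W)
  let R₂ := Γ(D₂, (j₂ ≫ g) ⁻¹ᵁ W)
  have hfin : ∀ {E : Scheme.{u}} (q : E ⟶ S) [IsFinite q], (q.app W).hom.Finite := fun q _ => q.finite_app W hW
  haveI : Module.Finite A R := hfin g
  haveI : Module.Finite A R₁ := hfin (j₁ ≫ g)
  haveI : Module.Finite A R₂ := hfin (j₂ ≫ g)
  have hflat : ∀ {E : Scheme.{u}} (q : E ⟶ S) [Flat q] [IsFinite q], (q.app W).hom.Flat := fun q _ _ => by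
    rw [Scheme.Hom.app_eq_appLE]
    exact HasRingHomProperty.appLE @Flat q inferInstance ⟨W, hW⟩ ⟨_, hW.preimage q⟩ _
  haveI : Module.Flat A R := hflat g
  haveI : Module.Flat A R₁ := hflat (j₁ ≫ g)
  haveI : Module.Flat A R₂ := hflat (j₂ ≫ g)
  haveI : Algebra.FinitePresentation A R₁ := by
    have h : ((j₁ ≫ g).app W).hom.FinitePresentation := by
      rw [Scheme.Hom.app_eq_appLE]
      exact HasRingHomProperty.appLE @LocallyOfFinitePresentation (j₁ ≫ g) inferInstance ⟨W, hW⟩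
        ⟨_, hW.preimage (j₁ ≫ g)⟩ _
    exact h
  let π₁ : R →ₐ[A] R₁ := { (j₁.app (g ⁻¹ᵁ W)).hom with commutes' := fun a => rfl }
  let π₂ : R →ₐ[A] R₂ := { (j₂.app (g ⁻¹ᵁ W)).hom with commutes' := fun a => rfl }
  have hloc : ∀ Q : Ideal R, Q.IsPrime → LocPair (RingHom.ker π₁) (RingHom.ker π₂) Q := by
    intro Q hQ
    let z : D := V.2.fromSpec ⟨Q, hQ⟩
    have hz : z ∈ V.1 := V.2.opensRange_fromSpec.le ⟨_, rfl⟩
    obtain ⟨V₀, hz₀, hP⟩ := hpair z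
    obtain ⟨h, h', e, hzh⟩ := exists_basicOpen_le_affine_inter V.2 V₀.2 z ⟨hz, hz₀⟩
    have hhQ : h ∉ Q := by
      have : (⟨Q, hQ⟩ : PrimeSpectrum R) ∈ V.2.fromSpec ⁻¹ᵁ D.basicOpen h := hzh
      rw [V.2.fromSpec_preimage_basicOpen] at this
      exact this
    have heq : D.affineBasicOpen h = D.affineBasicOpen h' := Subtype.ext e
    haveI := V.2.isLocalization_basicOpen h
    haveI := V₀.2.isLocalization_basicOpen h'
    have hP' : IsPair (j₁.ker.ideal (D.affineBasicOpen h)) (j₂.ker.ideal (D.affineBasicOpen h)) := by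
      rw [heq, ← j₁.ker.map_ideal_basicOpen V₀ h', ← j₂.ker.map_ideal_basicOpen V₀ h']
      exact hP.map (Submonoid.powers h') Γ(D, D.basicOpen h')
    rw [← j₁.ker.map_ideal_basicOpen V h, ← j₂.ker.map_ideal_basicOpen V h] at hP'
    have hk : ∀ {E : Scheme.{u}} (j : E ⟶ D) [IsClosedImmersion j],
        j.ker.ideal V = RingHom.ker (j.app (g ⁻¹ᵁ W)).hom := fun j _ => Scheme.Hom.ker_apply j V
    rw [hk j₁, hk j₂] at hP'
    exact locPair_of_isPair h hhQ Γ(D, D.basicOpen h) hP'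
  have key := rankAtStalk_eq_add π₁ π₂ (j₁.app_surjective _ V.2) (j₂.app_surjective _ V.2) hloc
    (hW.primeIdealOf ⟨s, hsW⟩)
  rw [CoverPush.finrank_eq g hW hsW, CoverPush.finrank_eq (j₁ ≫ g) hW hsW, CoverPush.finrank_eq (j₂ ≫ g) hW hsW]
  exact key

theorem mul_finLocFree (f : X ⟶ S) [SmoothOfRelativeDimension 1 f] (I₁ I₂ : X.IdealSheafData)
    (h₁ : Mor2.IsFinLocFree (I₁.subschemeι ≫ f)) (h₂ : Mor2.IsFinLocFree (I₂.subschemeι ≫ f)) :
    Mor2.IsFinLocFree ((I₁ * I₂).subschemeι ≫ f) ∧ ∀ s, ((I₁ * I₂).subschemeι ≫ f).finrank s =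
      (I₁.subschemeι ≫ f).finrank s + (I₂.subschemeι ≫ f).finrank s := by
  obtain ⟨c₁, fl₁⟩ := isEffCartier_of_finLocFree f I₁ h₁
  obtain ⟨c₂, fl₂⟩ := isEffCartier_of_finLocFree f I₂ h₂
  obtain ⟨c, fl⟩ := FlatX.flat_mul f c₁ c₂ fl₁ fl₂
  haveI := fl
  obtain ⟨hqf, hfp⟩ := quasiFinite_and_fp_of_isEffCartier f _ c
  haveI := hqf; haveI := hfp
  obtain ⟨fin₁, -, fp₁⟩ := h₁
  obtain ⟨fin₂, -, fp₂⟩ := h₂
  have le₁ : I₁ * I₂ ≤ I₁ := fun U => Ideal.mul_le_left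
  have le₂ : I₁ * I₂ ≤ I₂ := fun U => Ideal.mul_le_right
  let j₁ := Scheme.IdealSheafData.inclusion le₁
  let j₂ := Scheme.IdealSheafData.inclusion le₂
  let ι := (I₁ * I₂).subschemeι
  have hj₁ : j₁ ≫ ι = I₁.subschemeι := Scheme.IdealSheafData.inclusion_subschemeι le₁
  have hj₂ : j₂ ≫ ι = I₂.subschemeι := Scheme.IdealSheafData.inclusion_subschemeι le₂
  haveI : IsClosedImmersion (j₁ ≫ ι) := hj₁ ▸ inferInstance
  haveI : IsClosedImmersion (j₂ ≫ ι) := hj₂ ▸ inferInstance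
  haveI : IsClosedImmersion j₁ := .of_comp j₁ ι
  haveI : IsClosedImmersion j₂ := .of_comp j₂ ι
  have e₁ : j₁ ≫ ι ≫ f = I₁.subschemeι ≫ f := by rw [← Category.assoc, hj₁]
  have e₂ : j₂ ≫ ι ≫ f = I₂.subschemeι ≫ f := by rw [← Category.assoc, hj₂]
  haveI : IsFinite (j₁ ≫ ι ≫ f) := e₁ ▸ fin₁
  haveI : IsFinite (j₂ ≫ ι ≫ f) := e₂ ▸ fin₂
  haveI : Flat (j₁ ≫ ι ≫ f) := e₁ ▸ fl₁
  haveI : Flat (j₂ ≫ ι ≫ f) := e₂ ▸ fl₂
  haveI : LocallyOfFinitePresentation (j₁ ≫ ι ≫ f) := e₁ ▸ fp₁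
  let π := coprod.desc j₁ j₂
  haveI : Surjective π := ⟨fun z => by
    have hz : ι z ∈ ((I₁ * I₂).support : Set X) := by
      rw [← Scheme.IdealSheafData.range_subschemeι]; exact ⟨z, rfl⟩
    have hz' : ι z ∈ (I₁.support : Set X) ∨ ι z ∈ (I₂.support : Set X) := by
      rw [Scheme.IdealSheafData.support_mul] at hz
      exact hz
    have hinj : Function.Injective ι := ι.isClosedEmbedding.injective
    rcases hz' with hz | hz <;> rw [← Scheme.IdealSheafData.range_subschemeι] at hz <;> obtain ⟨w, hw⟩ := hz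
    · refine ⟨(coprod.inl : I₁.subscheme ⟶ _) w, hinj ?_⟩
      rw [← Scheme.Hom.comp_apply coprod.inl π, coprod.inl_desc, ← Scheme.Hom.comp_apply, hj₁, hw]
    · refine ⟨(coprod.inr : I₂.subscheme ⟶ _) w, hinj ?_⟩
      rw [← Scheme.Hom.comp_apply coprod.inr π, coprod.inr_desc, ← Scheme.Hom.comp_apply, hj₂, hw]⟩
  haveI : IsFinite (π ≫ ι ≫ f) := by
    rw [show π ≫ ι ≫ f = coprod.desc (j₁ ≫ ι ≫ f) (j₂ ≫ ι ≫ f) from coprod.desc_comp _ _ _]
    infer_instance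
  haveI : IsFinite π := inferInstanceAs (IsFinite (coprod.desc j₁ j₂))
  haveI : UniversallyClosed (ι ≫ f) := UniversallyClosed.of_comp_surjective π (ι ≫ f)
  haveI : IsSeparated (ι ≫ f) := DescLib.isSeparated_of_comp_surjective π (ι ≫ f)
  haveI : IsProper (ι ≫ f) := { }
  haveI hfin : IsFinite (ι ≫ f) := IsFinite.of_isProper_of_locallyQuasiFinite _
  refine ⟨⟨hfin, fl, hfp⟩, fun s => ?_⟩
  have hpair : ∀ z, ∃ V : (I₁ * I₂).subscheme.affineOpens, z ∈ V.1 ∧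
      IsPair (j₁.ker.ideal V) (j₂.ker.ideal V) := by
    intro z
    obtain ⟨U, hzU, -, ⟨a, ha, hIa⟩, b, -, hIb⟩ := FlatX.exists_locGen₂ c₁ c₂ (x := ι z) (O := ⊤) trivial
    refine ⟨⟨ι ⁻¹ᵁ U.1, U.2.preimage ι⟩, hzU, ?_⟩
    rw [ker_ideal_subscheme ι I₁ j₁ hj₁, ker_ideal_subscheme ι I₂ j₂ hj₂, hIa, hIb]
    refine isPair_of_span _ (ι.app_surjective U.1 U.2) a b ha ?_
    rw [(I₁ * I₂).ker_subschemeι_app U, Scheme.IdealSheafData.ideal_mul, Pi.mul_apply, hIa, hIb,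
      Ideal.span_singleton_mul_span_singleton]
  rw [finrank_add (ι ≫ f) j₁ j₂ hpair s]
  congr 1
  · congr 1
  · congr 1

theorem sum_finLocFreeOfDeg (f : X ⟶ S) [SmoothOfRelativeDimension 1 f] (I₁ I₂ : X.IdealSheafData) (d₁ d₂ : ℕ)
    (h₁ : Mor2.IsFinLocFreeOfDeg d₁ (I₁.subschemeι ≫ f)) (h₂ : Mor2.IsFinLocFreeOfDeg d₂ (I₂.subschemeι ≫ f)) :
    Mor2.IsFinLocFreeOfDeg (d₁ + d₂) ((I₁ * I₂).subschemeι ≫ f) := by
  obtain ⟨h, hd⟩ := mul_finLocFree f I₁ I₂ h₁.1 h₂.1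
  exact ⟨h, fun s => by rw [hd, h₁.2, h₂.2]⟩

theorem difference_finLocFreeOfDeg (f : X ⟶ S) [SmoothOfRelativeDimension 1 f] (I₁ I₂ : X.IdealSheafData)
    (hle : I₂ ≤ I₁) (d₁ d₂ : ℕ) (h₁ : Mor2.IsFinLocFreeOfDeg d₁ (I₁.subschemeι ≫ f))
    (h₂ : Mor2.IsFinLocFreeOfDeg d₂ (I₂.subschemeι ≫ f)) :
    ∃ I : X.IdealSheafData, Mor2.IsFinLocFreeOfDeg (d₂ - d₁) (I.subschemeι ≫ f) ∧ I₂ = I₁ * I := by
  obtain ⟨c₁, fl₁⟩ := isEffCartier_of_finLocFree f I₁ h₁.1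
  obtain ⟨c₂, fl₂⟩ := isEffCartier_of_finLocFree f I₂ h₂.1
  let I := ModPairLib.colon I₂ I₁ (ModPairLib.isLocPrincipal_of_isEffCartier c₁)
  have hI : I * I₁ = I₂ := ModPairLib.colon_mul c₁ hle
  have cI : BlowUp.IsEffCartierIdeal I := ModPairLib.isEffCartier_of_mul c₁ (hI.symm ▸ c₂)
  have flI : Flat (I.subschemeι ≫ f) := FlatX.flat_cancel f c₁ cI fl₁ fl₂ ((mul_comm _ _).trans hI)
  haveI := flI
  obtain ⟨hqf, hfp⟩ := quasiFinite_and_fp_of_isEffCartier f I cI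
  have le : I₂ ≤ I := by rw [← hI]; exact fun U => Ideal.mul_le_left
  have e : Scheme.IdealSheafData.inclusion le ≫ I₂.subschemeι ≫ f = I.subschemeι ≫ f := by
    rw [← Category.assoc, Scheme.IdealSheafData.inclusion_subschemeι]
  haveI := h₂.1.1
  haveI : IsClosedImmersion (Scheme.IdealSheafData.inclusion le ≫ I₂.subschemeι) := by
    rw [Scheme.IdealSheafData.inclusion_subschemeι]; infer_instance
  haveI : IsClosedImmersion (Scheme.IdealSheafData.inclusion le) := .of_comp _ I₂.subschemeι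
  have hfin : IsFinite (I.subschemeι ≫ f) := e ▸ inferInstance
  refine ⟨I, ⟨⟨hfin, flI, hfp⟩, fun s => ?_⟩, by rw [mul_comm, hI]⟩
  have hd := (mul_finLocFree f I I₁ ⟨hfin, flI, hfp⟩ h₁.1).2 s
  rw [hI, h₂.2 s, h₁.2 s] at hd
  omega

/-- A relative divisor of degree zero is empty. -/
theorem eq_top_of_deg_zero (f : X ⟶ S) (I : X.IdealSheafData)
    (h : Mor2.IsFinLocFreeOfDeg 0 (I.subschemeι ≫ f)) : I = ⊤ := by
  haveI := h.1.1; haveI := h.1.2.1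
  have he : IsEmpty I.subscheme := ⟨fun x => by
    have h1 := Scheme.Hom.one_le_finrank_map (I.subschemeι ≫ f) x
    rw [h.2] at h1
    omega⟩
  rw [← I.ker_subschemeι]
  exact (Scheme.Hom.ker_eq_top_iff_isEmpty _).2 he

end Groth.Agent.RelCurveDiv
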